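import Cfsg.Agent.Lib.BaseTwo.Basic
/-
Three-point bases: the property for smaller modules and the reducible case.
-/
set_option autoImplicit false

universe u

namespace CfsgLib.BaseThree

open CfsgLib.BaseTwo (IsCR IsIrr subAction)

/-- three vectors exist for all smaller modules -/
def Below (n : ℕ) : Prop :=
  ∀ (A V : Type u) [Group A] [Finite A] [AddCommGroup V] [Finite V] [DistribMulAction A V],
    Group.IsSolvable A → IsCR A V → Nat.card V < n →
      ∃ v : Fin 3 → V, ∀ a : A, (∀ r, a • v r = v r) → ∀ x : V, a • x = x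

variable {A V : Type u} [Group A] [Finite A] [AddCommGroup V] [Finite V] [DistribMulAction A V]

theorem Below.mono {m n : ℕ} (h : Below.{u} n) (hmn : m ≤ n) : Below.{u} m :=
  fun A V _ _ _ _ _ hs hc hlt => h A V hs hc (lt_of_lt_of_le hlt hmn)

theorem Below.sub {n : ℕ} (h : Below.{u} n) (hs : Group.IsSolvable A)
    (U : AddSubgroup V) (hU : ∀ a : A, ∀ v ∈ U, a • v ∈ U)
    (hcr : ∀ X : AddSubgroup V, X ≤ U → (∀ a : A, ∀ v ∈ X, a • v ∈ X) →
      ∃ Y : AddSubgroup V, Y ≤ U ∧ (∀ a : A, ∀ v ∈ Y, a • v ∈ Y) ∧ X ⊓ Y = ⊥ ∧ X ⊔ Y = U)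
    (hlt : Nat.card U < n) :
    ∃ v : Fin 3 → V, (∀ r, v r ∈ U) ∧ ∀ a : A, (∀ r, a • v r = v r) → ∀ x ∈ U, a • x = x := by
  let : DistribMulAction A U := subAction U hU
  have hc : IsCR A U := by
    intro X hX
    obtain ⟨Y, hYU, hY, hinf, hsup⟩ := hcr (X.map U.subtype)
      (by rintro _ ⟨x, -, rfl⟩; exact x.2)
      (by rintro a _ ⟨x, hx, rfl⟩; exact ⟨a • x, hX a x hx, rfl⟩)
    refine ⟨Y.comap U.subtype, fun a w hw => hY a _ hw, ?_, ?_⟩
    · rw [eq_bot_iff]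
      rintro x ⟨hx, hy⟩
      have : (x : V) ∈ X.map U.subtype ⊓ Y := ⟨⟨x, hx, rfl⟩, hy⟩
      rw [hinf, AddSubgroup.mem_bot] at this
      exact AddSubgroup.mem_bot.mpr (Subtype.ext this)
    · rw [eq_top_iff]
      intro x _
      have hx : (x : V) ∈ X.map U.subtype ⊔ Y := by rw [hsup]; exact x.2
      obtain ⟨_, ⟨a, ha, rfl⟩, b, hb, hab⟩ := AddSubgroup.mem_sup.mp hx
      exact AddSubgroup.mem_sup.mpr ⟨a, ha, ⟨b, hYU hb⟩, hb, Subtype.ext hab⟩
  obtain ⟨v, hv⟩ := h A U hs hc hlt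
  exact ⟨fun r => (v r : V), fun r => (v r).2, fun a ha x hx =>
    congrArg Subtype.val (hv a (fun r => Subtype.ext (ha r)) ⟨x, hx⟩)⟩

/-- reducible case -/
theorem triple_of_not_irr {n : ℕ} (hb : Below.{u} n) (hn : Nat.card V ≤ n)
    (hs : Group.IsSolvable A) (hcr : IsCR A V) (hni : ¬ IsIrr A V) :
    ∃ v : Fin 3 → V, ∀ a : A, (∀ r, a • v r = v r) → ∀ x : V, a • x = x := by
  simp only [IsIrr, not_forall, not_or] at hni
  obtain ⟨U, hU, hU1, hU2⟩ := hni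
  obtain ⟨W, hW, hinf, hsup⟩ := hcr U hU
  have hW2 : W ≠ ⊤ := by rintro rfl; exact hU1 (by simpa using hinf)
  have small : ∀ X : AddSubgroup V, X ≠ ⊤ → Nat.card X < n := fun X hX =>
    lt_of_lt_of_le (lt_of_le_of_ne (Nat.card_le_card_of_injective _ Subtype.val_injective)
      fun h => hX (AddSubgroup.eq_top_of_card_eq X h)) hn
  obtain ⟨v, hv, hvv⟩ := hb.sub hs U hU (hcr.inherit U hU) (small U hU2)
  obtain ⟨w, hw, hww⟩ := hb.sub hs W hW (hcr.inherit W hW) (small W hW2)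
  have split : ∀ (a : A) (x y : V), x ∈ U → y ∈ W → a • (x + y) = x + y → a • x = x ∧ a • y = y := by
    intro a x y hx hy he
    rw [smul_add] at he
    have h1 : a • x - x = y - a • y := by
      rw [sub_eq_sub_iff_add_eq_add, he]; abel
    have h2 : a • x - x ∈ U ⊓ W :=
      ⟨U.sub_mem (hU a x hx) hx, h1 ▸ W.sub_mem hy (hW a y hy)⟩
    rw [hinf, AddSubgroup.mem_bot] at h2
    refine ⟨sub_eq_zero.mp h2, ?_⟩
    rw [h2] at h1
    exact (sub_eq_zero.mp h1.symm).symm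
  refine ⟨fun r => v r + w r, fun a ha x => ?_⟩
  obtain ⟨p, hp, q, hq, rfl⟩ := AddSubgroup.mem_sup.mp (show x ∈ U ⊔ W by rw [hsup]; trivial)
  rw [smul_add, hvv a (fun r => (split a _ _ (hv r) (hw r) (ha r)).1) p hp,
    hww a (fun r => (split a _ _ (hv r) (hw r) (ha r)).2) q hq]

end CfsgLib.BaseThree
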