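import Cfsg.Agent.Lib.BaseThree.Basic
/-
Five inequivalent colourings with five colours, each with trivial stabiliser, for every solvable
permutation group on few points: colour a base by different colours.
-/
set_option autoImplicit false

universe u

open scoped commutatorElement

namespace CfsgLib.BaseThree

open CfsgLib.BaseTwo (IsCR IsIrr)

/-- the prime exponent of an irreducible module -/
theorem exists_prime_exponent {A V : Type*} [Group A] [AddCommGroup V] [Finite V] [Nontrivial V]
    [DistribMulAction A V] (hirr : IsIrr A V) :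
    ∃ p k : ℕ, p.Prime ∧ (∀ v : V, p • v = 0) ∧ Nat.card V = p ^ k ∧ 0 < k := by
  have hcard : 1 < Nat.card V := Finite.one_lt_card
  obtain ⟨p, hp, hpd⟩ := Nat.exists_prime_and_dvd hcard.ne'
  have : Fact p.Prime := ⟨hp⟩
  obtain ⟨v, hv⟩ := exists_prime_addOrderOf_dvd_card' p hpd
  let U : AddSubgroup V :=
    { carrier := {x | p • x = 0}
      zero_mem' := smul_zero p
      add_mem' := fun {a b} (ha : p • a = 0) (hb : p • b = 0) => by
        show p • (a + b) = 0
        rw [smul_add, ha, hb, add_zero]
      neg_mem' := fun {a} (ha : p • a = 0) => by show p • -a = 0; rw [smul_neg, ha, neg_zero] }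
  have hU : ∀ a : A, ∀ x ∈ U, a • x ∈ U := fun a x (hx : p • x = 0) => by
    show p • a • x = 0
    rw [smul_comm, hx, smul_zero]
  have hvU : v ∈ U := show p • v = 0 from hv ▸ addOrderOf_nsmul_eq_zero v
  rcases hirr U hU with h | h
  · rw [h, AddSubgroup.mem_bot] at hvU
    rw [hvU, addOrderOf_zero] at hv
    exact absurd hv hp.ne_one.symm
  · have hexp : ∀ v : V, p • v = 0 := fun v => show v ∈ U by rw [h]; trivial
    have hP : IsPGroup p (Multiplicative V) := fun x => ⟨1, by
      rw [pow_one]
      exact Multiplicative.ext (by simpa [toAdd_pow] using hexp (Multiplicative.toAdd x))⟩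
    obtain ⟨k, hk⟩ := hP.exists_card_eq
    rw [Nat.card_congr Multiplicative.toAdd] at hk
    refine ⟨p, k, hp, hexp, hk, Nat.pos_of_ne_zero fun hk0 => ?_⟩
    rw [hk0, pow_zero] at hk
    omega

theorem exists_abelian_normal (G : Type u) [Group G] [Nontrivial G] (hs : Group.IsSolvable G) :
    ∃ A : Subgroup G, A.Normal ∧ A ≠ ⊥ ∧ ∀ x ∈ A, ∀ y ∈ A, x * y = y * x := by
  classical
  have hex : ∃ n, derivedSeries G n = ⊥ := hs.solvable
  have hk0 : Nat.find hex ≠ 0 := fun h => by
    have h' := Nat.find_spec hex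
    rw [h, derivedSeries_zero] at h'
    exact top_ne_bot h'
  obtain ⟨j, hj⟩ := Nat.exists_eq_succ_of_ne_zero hk0
  refine ⟨derivedSeries G j, inferInstance, Nat.find_min hex (by omega), fun x hx y hy => ?_⟩
  have h : ⁅x, y⁆ ∈ derivedSeries G (j + 1) := by
    rw [derivedSeries_succ]; exact Subgroup.commutator_mem_commutator hx hy
  rw [← Nat.succ_eq_add_one, ← hj, Nat.find_spec hex, Subgroup.mem_bot] at h
  exact commutatorElement_eq_one_iff_mul_comm.mp h

/-- five inequivalent colourings, each with trivial stabiliser -/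
def Colours (G Ω : Type*) [SMul G Ω] : Prop :=
  ∃ c : Fin 5 → Ω → Fin 5, ∀ (g : G) (i j : Fin 5), (∀ x, c i (g • x) = c j x) →
    i = j ∧ ∀ x : Ω, g • x = x

theorem primitive_case {G Ω : Type u} [Group G] [Finite G] [Finite Ω] [MulAction G Ω]
    [FaithfulSMul G Ω] [MulAction.IsPretransitive G Ω] [Nontrivial Ω]
    (hs : Group.IsSolvable G) (hb : Below.{u} (Nat.card Ω + 1))
    (a : Ω) (hmax : ∀ K : Subgroup G, MulAction.stabilizer G a < K → K = ⊤) :
    ∃ c : Fin 5 → Ω → Fin 5, ∀ (g : G) (i j : Fin 5), (∀ x, c i (g • x) = c j x) → i = j ∧ g = 1 := by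
  classical
  let H := MulAction.stabilizer G a
  have : Nontrivial G := by
    obtain ⟨x, y, hxy⟩ := exists_pair_ne Ω
    obtain ⟨g, rfl⟩ := MulAction.exists_smul_eq G x y
    exact ⟨⟨g, 1, fun h => hxy (by rw [h, one_smul])⟩⟩
  obtain ⟨N, hN, hNne, hcomm⟩ := exists_abelian_normal G hs
  have hcore : ∀ K : Subgroup G, K ≤ H → K.Normal → K = ⊥ := fun K hK hKn =>
    (Subgroup.eq_bot_iff_forall _).mpr fun k hk => FaithfulSMul.eq_of_smul_eq_smul fun x : Ω => by
      obtain ⟨g, rfl⟩ := MulAction.exists_smul_eq G a x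
      have h1 : g⁻¹ * k * g ∈ H := hK (by simpa using hKn.conj_mem k hk g⁻¹)
      rw [MulAction.mem_stabilizer_iff, mul_smul, mul_smul, inv_smul_eq_iff] at h1
      rw [h1, one_smul]
  -- nontrivial subgroups of N invariant under H are normal and transitive
  have hnormal : ∀ U : Subgroup G, U ≤ N → (∀ h ∈ H, ∀ x ∈ U, h * x * h⁻¹ ∈ U) → U.Normal := by
    intro U hU hUH
    have hle : H ⊔ N ≤ Subgroup.normalizer (U : Set G) := by
      refine sup_le (fun h hh => Subgroup.mem_normalizer_iff.mpr fun x => ⟨hUH h hh x, fun hx => ?_⟩)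
        fun n hn => Subgroup.mem_normalizer_iff.mpr fun x => ⟨fun hx => ?_, fun hx => ?_⟩
      · have := hUH h⁻¹ (inv_mem hh) _ hx
        simpa [mul_assoc] using this
      · rwa [hcomm n hn x (hU hx), mul_inv_cancel_right]
      · have hxN : x ∈ N := by
          have := hN.conj_mem _ (hU hx) n⁻¹
          simpa [mul_assoc] using this
        rwa [hcomm n hn x hxN, mul_inv_cancel_right] at hx
    have htop : H ⊔ N = ⊤ := hmax _ (lt_of_le_of_ne le_sup_left fun h =>
      hNne (hcore N (le_sup_right.trans h.ge) hN))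
    rw [htop, top_le_iff] at hle
    exact Subgroup.normalizer_eq_top_iff.mp hle
  have hgen : ∀ U : Subgroup G, U.Normal → U ≠ ⊥ → ∀ x : Ω, ∃ u ∈ U, u • a = x := by
    intro U hUn hUne x
    have htop : H ⊔ U = ⊤ := hmax _ (lt_of_le_of_ne le_sup_left fun h =>
      hUne (hcore U (le_sup_right.trans h.ge) hUn))
    obtain ⟨g, rfl⟩ := MulAction.exists_smul_eq G a x
    obtain ⟨u, hu, h, hh, rfl⟩ := Subgroup.mem_sup_of_normal_left.mp
      (show g ∈ U ⊔ H by rw [sup_comm, htop]; trivial)
    exact ⟨u, hu, by rw [mul_smul, show h • a = a from hh]⟩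
  have hreg : N ⊓ H = ⊥ := by
    refine hcore _ inf_le_right (hnormal _ inf_le_left fun h hh x hx => ⟨hN.conj_mem x hx.1 h, ?_⟩)
    exact H.mul_mem (H.mul_mem hh hx.2) (H.inv_mem hh)
  have hinj : ∀ x ∈ N, ∀ y ∈ N, x • a = y • a → x = y := fun x hx y hy h => by
    have : y⁻¹ * x ∈ N ⊓ H := ⟨N.mul_mem (N.inv_mem hy) hx, by
      show (y⁻¹ * x) • a = a
      rw [mul_smul, h, inv_smul_smul]⟩
    rw [hreg, Subgroup.mem_bot] at this
    exact (inv_mul_eq_one.mp this).symm
  let e : N ≃ Ω := Equiv.ofBijective (fun x => (x : G) • a)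
    ⟨fun x y h => Subtype.ext (hinj x x.2 y y.2 h), fun x => by
      obtain ⟨u, hu, h⟩ := hgen N hN hNne x; exact ⟨⟨u, hu⟩, h⟩⟩
  -- N as a module for H
  let : IsMulCommutative N := ⟨⟨fun x y => Subtype.ext (hcomm x x.2 y y.2)⟩⟩
  let : CommGroup N := { (inferInstance : Group N) with mul_comm := fun x y => Subtype.ext (hcomm x x.2 y y.2) }
  let : DistribMulAction H (Additive N) :=
    { smul := fun h x => Additive.ofMul ⟨h.1 * (Additive.toMul x : N) * h.1⁻¹, hN.conj_mem _ (Additive.toMul x).2 h.1⟩
      one_smul := fun x => Additive.toMul.injective (Subtype.ext (by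
        show (1 : G) * _ * (1 : G)⁻¹ = _
        simp))
      mul_smul := fun g h x => Additive.toMul.injective (Subtype.ext (by
        show (g.1 * h.1) * _ * (g.1 * h.1)⁻¹ = g.1 * (h.1 * _ * h.1⁻¹) * g.1⁻¹
        group))
      smul_zero := fun g => Additive.toMul.injective (Subtype.ext (by
        show g.1 * 1 * g.1⁻¹ = 1
        simp))
      smul_add := fun g x y => Additive.toMul.injective (Subtype.ext (by
        show g.1 * ((Additive.toMul x : N).1 * (Additive.toMul y : N).1) * g.1⁻¹ =
          (g.1 * (Additive.toMul x : N).1 * g.1⁻¹) * (g.1 * (Additive.toMul y : N).1 * g.1⁻¹)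
        group)) }
  have hequiv : ∀ (h : H) (x : Additive N), e (Additive.toMul (h • x)) = h.1 • e (Additive.toMul x) := by
    intro h x
    simp only [e]
    show (h.1 * (Additive.toMul x : N).1 * h.1⁻¹) • a = h.1 • (Additive.toMul x : N).1 • a
    rw [mul_smul, mul_smul]
    congr 2
    exact inv_smul_eq_iff.mpr h.2.symm
  have : FaithfulSMul H (Additive N) := ⟨fun {g h} hgh => Subtype.ext
    (FaithfulSMul.eq_of_smul_eq_smul fun x : Ω => by
      obtain ⟨y, rfl⟩ := e.surjective x
      show g.1 • e (Additive.toMul (Additive.ofMul y)) = _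
      rw [← hequiv g (Additive.ofMul y), hgh, hequiv]; rfl)⟩
  have hirr : CfsgLib.BaseTwo.IsIrr H (Additive N) := by
    intro U hU
    by_cases hU1 : U = ⊥
    · exact Or.inl hU1
    right
    let U' : Subgroup G :=
      { carrier := {g | ∃ hg : g ∈ N, Additive.ofMul (⟨g, hg⟩ : N) ∈ U}
        one_mem' := ⟨one_mem _, U.zero_mem⟩
        mul_mem' := fun {x y} ⟨hx, hx'⟩ ⟨hy, hy'⟩ => ⟨mul_mem hx hy, U.add_mem hx' hy'⟩
        inv_mem' := fun {x} ⟨hx, hx'⟩ => ⟨inv_mem hx, U.neg_mem hx'⟩ }
    have hU'n : U'.Normal := hnormal U' (fun g hg => hg.1) fun h hh x hx =>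
      ⟨hN.conj_mem x hx.1 h, hU ⟨h, hh⟩ _ hx.2⟩
    have hU'ne : U' ≠ ⊥ := by
      obtain ⟨u, hu⟩ := AddSubgroup.ne_bot_iff_exists_ne_zero.mp hU1
      intro h
      have hmem : (Additive.toMul u.1 : N).1 ∈ U' := ⟨(Additive.toMul u.1 : N).2, u.2⟩
      rw [h, Subgroup.mem_bot] at hmem
      exact hu (Subtype.ext (Additive.toMul.injective (Subtype.ext hmem)))
    rw [eq_top_iff]
    intro x _
    obtain ⟨u, ⟨huN, hu⟩, he⟩ := hgen U' hU'n hU'ne (e (Additive.toMul x))
    have : Additive.toMul x = ⟨u, huN⟩ := Subtype.ext (hinj _ (Additive.toMul x).2 u huN he.symm)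
    have hx : x = Additive.ofMul (⟨u, huN⟩ : N) := by rw [← this]; rfl
    exact hx ▸ hu
  have hcardN : Nat.card (Additive N) = Nat.card Ω := Nat.card_congr (Additive.toMul.trans e)
  have hGtriv : ∀ g : G, g • a = a → (∀ x : N, g • e x = e x) → g = 1 := fun g _ h =>
    FaithfulSMul.eq_of_smul_eq_smul fun x : Ω => by
      obtain ⟨y, rfl⟩ := e.surjective x
      rw [h y, one_smul]
  let : Fintype Ω := Fintype.ofFinite Ω
  have hm2 : 2 ≤ Fintype.card Ω := Fintype.one_lt_card
  by_cases hm4 : Fintype.card Ω ≤ 4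
  · -- injective colourings told apart by their images
    let q : Ω → Fin 5 := fun x => Fin.castLE (by omega) (Fintype.equivFin Ω x)
    have hq : Function.Injective q := fun x y h =>
      (Fintype.equivFin Ω).injective (Fin.castLE_injective _ h)
    refine ⟨fun i x => i + q x, fun g i j hg => ?_⟩
    obtain rfl : i = j := by
      classical
      have himg : Finset.univ.image (fun x => i + q x) = Finset.univ.image (fun x => j + q x) := by
        ext k
        simp only [Finset.mem_image, Finset.mem_univ, true_and]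
        constructor
        · rintro ⟨x, rfl⟩
          exact ⟨g⁻¹ • x, by simpa using (hg (g⁻¹ • x)).symm⟩
        · rintro ⟨x, rfl⟩
          exact ⟨g • x, hg x⟩
      have hq' : Finset.univ.image q = Finset.univ.filter fun k : Fin 5 => k.val < Fintype.card Ω := by
        ext k
        simp only [Finset.mem_image, Finset.mem_univ, true_and, Finset.mem_filter]
        constructor
        · rintro ⟨x, rfl⟩; exact (Fintype.equivFin Ω x).2
        · intro hk
          exact ⟨(Fintype.equivFin Ω).symm ⟨k, hk⟩, by simp [q, Fin.castLE]⟩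
      have hshift : ∀ l : Fin 5, Finset.univ.image (fun x => l + q x) =
          (Finset.univ.filter fun k : Fin 5 => k.val < Fintype.card Ω).image fun k => l + k := by
        intro l
        rw [← hq', Finset.image_image]
        rfl
      rw [hshift, hshift] at himg
      revert himg
      have key : ∀ m : Fin 5, m.val ≠ 0 → ∀ i j : Fin 5,
          (Finset.univ.filter fun k : Fin 5 => k.val < m.val).image (fun k => i + k) =
          (Finset.univ.filter fun k : Fin 5 => k.val < m.val).image (fun k => j + k) → i = j := by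
        decide +kernel
      exact key ⟨Fintype.card Ω, by omega⟩ (by show Fintype.card Ω ≠ 0; omega) i j
    exact ⟨rfl, FaithfulSMul.eq_of_smul_eq_smul fun x : Ω => by
      rw [one_smul]; exact hq (add_left_cancel (hg x))⟩
  -- a base of at most four points and at least two further points
  obtain ⟨P, hP4, hPrest, hPbase⟩ : ∃ P : Finset Ω, P.card ≤ 4 ∧ P.card + 2 ≤ Fintype.card Ω ∧
      ∀ g : G, (∀ x ∈ P, g • x = x) → g = 1 := by
    classical
    have fixN : ∀ g : G, g • a = a → ∀ x : N, g • e x = e x →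
        ∀ h : H, h.1 = g → h • Additive.ofMul x = Additive.ofMul x := by
      intro g _ x hx h hh
      refine Additive.toMul.injective (e.injective ?_)
      rw [hequiv, toMul_ofMul, hh, hx]
    by_cases h5 : Fintype.card Ω = 5
    · -- a prime number of points
      have hN5 : Nat.card N = 5 := by
        rw [Nat.card_congr e, Nat.card_eq_fintype_card, h5]
      obtain ⟨x0, hx0⟩ : ∃ x : N, x ≠ 1 := by
        have : Nontrivial N := Finite.one_lt_card_iff_nontrivial.mp (by omega)
        exact exists_ne 1
      refine ⟨{a, e x0}, (Finset.card_insert_le _ _).trans (by simp),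
        by have := Finset.card_insert_le a {e x0}; simp at this; omega, fun g hg => ?_⟩
      have ha := hg a (by simp)
      refine hGtriv g ha fun x => ?_
      let h : H := ⟨g, ha⟩
      let U : AddSubgroup (Additive N) :=
        { carrier := {x | h • x = x}
          zero_mem' := smul_zero h
          add_mem' := fun {x y} (hx : h • x = x) (hy : h • y = y) => by
            show h • (x + y) = x + y
            rw [smul_add, hx, hy]
          neg_mem' := fun {x} (hx : h • x = x) => by show h • -x = -x; rw [smul_neg, hx] }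
      have hx0U : Additive.ofMul x0 ∈ U := fixN g ha x0 (hg _ (by simp)) h rfl
      have : Fact (Nat.card (Additive N)).Prime := ⟨by
        rw [Nat.card_congr Additive.toMul, hN5]; norm_num⟩
      rcases U.eq_bot_or_eq_top_of_prime_card with hU | hU
      · rw [hU, AddSubgroup.mem_bot] at hx0U
        exact absurd hx0U hx0
      · have h1 : h • Additive.ofMul x = Additive.ofMul x :=
          (show Additive.ofMul x ∈ U by rw [hU]; trivial)
        have h2 := hequiv h (Additive.ofMul x)
        rw [h1] at h2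
        exact h2.symm
    · obtain ⟨v, hv⟩ := hb H (Additive N) inferInstance hirr.isCR (by omega)
      let P : Finset Ω := insert a (Finset.univ.image fun r => e (Additive.toMul (v r)))
      have hP : P.card ≤ 4 := (Finset.card_insert_le _ _).trans
        (Nat.succ_le_succ (Finset.card_image_le.trans (by simp)))
      refine ⟨P, hP, by omega, fun g hg => ?_⟩
      have ha := hg a (Finset.mem_insert_self _ _)
      refine hGtriv g ha fun x => ?_
      let h : H := ⟨g, ha⟩
      have h1 := hv h (fun r => fixN g ha _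
        (hg _ (Finset.mem_insert_of_mem (Finset.mem_image_of_mem _ (Finset.mem_univ r)))) h rfl)
        (Additive.ofMul x)
      have h2 := hequiv h (Additive.ofMul x)
      rw [h1] at h2
      exact h2.symm
  classical
  let idx : P → Fin 4 := fun x => Fin.castLE hP4 (P.equivFin x)
  have hidx : Function.Injective idx := fun x y h =>
    P.equivFin.injective (Fin.castLE_injective _ h)
  let c : Fin 5 → Ω → Fin 5 := fun i x => if hx : x ∈ P then i.succAbove (idx ⟨x, hx⟩) else i
  have hc : ∀ i x, c i x = i ↔ x ∉ P := by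
    intro i x
    by_cases hx : x ∈ P
    · simp [c, hx, Fin.succAbove_ne]
    · simp [c, hx]
  have hci : ∀ i x y, x ∈ P → y ∈ P → c i x = c i y → x = y := by
    intro i x y hx hy h
    simp only [c, dif_pos hx, dif_pos hy] at h
    exact congrArg Subtype.val (hidx (Fin.succAbove_right_injective h))
  refine ⟨c, fun g i j hg => ?_⟩
  obtain rfl : i = j := by
    by_contra hij
    obtain ⟨x, hx, y, hy, hxy⟩ := Finset.one_lt_card.mp
      (show 1 < Pᶜ.card by rw [Finset.card_compl]; omega)
    rw [Finset.mem_compl] at hx hy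
    have h1 : ∀ z, z ∉ P → c i (g • z) = j ∧ g • z ∈ P := fun z hz => by
      have := (hg z).trans ((hc j z).mpr hz)
      exact ⟨this, by_contra fun h => hij (((hc i _).mpr h).symm.trans this)⟩
    exact hxy (MulAction.injective g (hci i _ _ (h1 x hx).2 (h1 y hy).2
      ((h1 x hx).1.trans (h1 y hy).1.symm)))
  refine ⟨rfl, hPbase g fun x hx => ?_⟩
  have h1 : g • x ∈ P := by
    by_contra h
    exact ((hc i x).mp ((hg x).symm.trans ((hc i _).mpr h))) hx
  exact hci i _ _ h1 hx (hg x)

/-- the colourings for all solvable groups on fewer points than the modules considered -/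
theorem colour_aux (n : ℕ) (hb : Below.{u} n) :
    ∀ m < n, ∀ (G Ω : Type u) [Group G] [Finite G] [Finite Ω] [Nonempty Ω] [MulAction G Ω],
    Group.IsSolvable G → Nat.card Ω = m → Colours G Ω := by
  intro m
  induction m using Nat.strong_induction_on with
  | _ m ih =>
    intro hmn G Ω _ _ _ _ _ hs hΩ
    classical
    rcases subsingleton_or_nontrivial Ω with hsub | hnt
    · obtain ⟨a⟩ := (inferInstance : Nonempty Ω)
      exact ⟨fun i _ => i, fun g i j h => ⟨h a, fun x => Subsingleton.elim _ _⟩⟩
    have small : ∀ S : Set Ω, S ≠ Set.univ → Nat.card S < m := fun S hS => by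
      rw [← hΩ, Nat.card_coe_set_eq, ← Set.ncard_univ]
      exact Set.ncard_lt_ncard (Set.ssubset_univ_iff.mpr hS) (Set.toFinite _)
    obtain ⟨a⟩ := (inferInstance : Nonempty Ω)
    by_cases htr : MulAction.orbit G a = Set.univ
    swap
    · let S1 : SubMulAction G Ω :=
        { carrier := MulAction.orbit G a
          smul_mem' := fun g {x} hx => MulAction.mem_orbit_of_mem_orbit g hx }
      let S2 : SubMulAction G Ω :=
        { carrier := (MulAction.orbit G a)ᶜ
          smul_mem' := fun g {x} hx hgx => hx (by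
            simpa using MulAction.mem_orbit_of_mem_orbit g⁻¹ hgx) }
      have h2 : (MulAction.orbit G a)ᶜ ≠ Set.univ := fun h => by
        have : a ∈ (MulAction.orbit G a)ᶜ := by rw [h]; trivial
        exact this (MulAction.mem_orbit_self a)
      have : Nonempty S1 := ⟨⟨a, MulAction.mem_orbit_self a⟩⟩
      have : Nonempty S2 := by
        obtain ⟨x, hx⟩ := (Set.ne_univ_iff_exists_notMem _).mp htr
        exact ⟨⟨x, hx⟩⟩
      obtain ⟨c1, hc1⟩ := ih _ (small _ htr) (lt_trans (small _ htr) hmn) G S1 hs rfl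
      obtain ⟨c2, hc2⟩ := ih _ (small _ h2) (lt_trans (small _ h2) hmn) G S2 hs rfl
      let c : Fin 5 → Ω → Fin 5 := fun i x =>
        if hx : x ∈ MulAction.orbit G a then c1 i (⟨x, hx⟩ : S1) else c2 0 (⟨x, hx⟩ : S2)
      have e1 : ∀ i (y : S1), c i y.1 = c1 i y := fun i y => dif_pos y.2
      have e2 : ∀ i (y : S2), c i y.1 = c2 0 y := fun i y => dif_neg y.2
      refine ⟨c, fun g i j h => ?_⟩
      obtain ⟨hij, h1⟩ := hc1 g i j fun y => by rw [← e1, ← e1]; exact h y.1
      obtain ⟨-, h2'⟩ := hc2 g 0 0 fun y => by rw [← e2 i, ← e2 j]; exact h y.1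
      refine ⟨hij, fun x => ?_⟩
      by_cases hx : x ∈ MulAction.orbit G a
      · exact congrArg Subtype.val (h1 (⟨x, hx⟩ : S1))
      · exact congrArg Subtype.val (h2' (⟨x, hx⟩ : S2))
    have : MulAction.IsPretransitive G Ω := ⟨fun x y => by
      obtain ⟨g, rfl⟩ := (htr ▸ Set.mem_univ x : x ∈ MulAction.orbit G a)
      obtain ⟨h, rfl⟩ := (htr ▸ Set.mem_univ y : y ∈ MulAction.orbit G a)
      exact ⟨h * g⁻¹, by simp [mul_smul]⟩⟩
    let H := MulAction.stabilizer G a
    by_cases hmax : ∀ K : Subgroup G, H < K → K = ⊤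
    · -- primitive: pass to the image in the symmetric group
      let φ := MulAction.toPermHom G Ω
      let R := φ.range
      have : MulAction.IsPretransitive R Ω := ⟨fun x y => by
        obtain ⟨g, hg⟩ := MulAction.exists_smul_eq G x y
        exact ⟨φ.rangeRestrict g, hg⟩⟩
      have hsR : Group.IsSolvable R := Group.isSolvable_of_surjective φ.rangeRestrict_surjective
      have hmaxR : ∀ K : Subgroup R, MulAction.stabilizer R a < K → K = ⊤ := by
        intro K hK
        have h := hmax (K.comap φ.rangeRestrict) (lt_of_le_of_ne (fun g hg => hK.le hg) fun he => by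
          refine hK.ne (le_antisymm hK.le fun r hr => ?_)
          obtain ⟨g, rfl⟩ := φ.rangeRestrict_surjective r
          have : g ∈ H := he ▸ hr
          exact this)
        rw [eq_top_iff]
        intro r _
        obtain ⟨g, rfl⟩ := φ.rangeRestrict_surjective r
        exact (show g ∈ K.comap φ.rangeRestrict by rw [h]; trivial)
      obtain ⟨c, hc⟩ := primitive_case hsR (hb.mono (by omega)) a hmaxR
      refine ⟨c, fun g i j hg => ?_⟩
      obtain ⟨hij, h1⟩ := hc (φ.rangeRestrict g) i j hg
      exact ⟨hij, fun x => Equiv.congr_fun (congrArg Subtype.val h1 : φ g = 1) x⟩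
    · simp only [not_forall] at hmax
      obtain ⟨K, hHK, hK⟩ := hmax
      have h1 : Nat.card (G ⧸ K) < m := by
        rw [← hΩ, ← MulAction.index_stabilizer_of_transitive G a, ← Subgroup.index_eq_card]
        exact Subgroup.index_strictAnti hHK
      obtain ⟨cT, hcT⟩ := ih _ h1 (lt_trans h1 hmn) G (G ⧸ K) hs rfl
      let F : Set Ω := {x | ∃ k ∈ K, k • a = x}
      have hmemK : ∀ g : G, g • a ∈ F → g ∈ K := by
        rintro g ⟨k, hk, he⟩
        have : k⁻¹ * g ∈ H := by
          show (k⁻¹ * g) • a = a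
          rw [mul_smul, ← he, inv_smul_smul]
        simpa using mul_mem hk (hHK.le this)
      have hFne : F ≠ Set.univ := fun h => hK (eq_top_iff.mpr fun g _ =>
        hmemK g (by rw [h]; trivial))
      let FS : SubMulAction K Ω :=
        { carrier := F
          smul_mem' := by
            rintro k x ⟨k', hk', rfl⟩
            exact ⟨k.1 * k', mul_mem k.2 hk', mul_smul _ _ _⟩ }
      have : Nonempty FS := ⟨⟨a, 1, one_mem K, one_smul G a⟩⟩
      obtain ⟨cF, hcF⟩ := ih _ (small F hFne) (lt_trans (small F hFne) hmn) K FS inferInstance rfl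
      let r : G ⧸ K → G := Quotient.out
      have hr : ∀ c, (QuotientGroup.mk (r c) : G ⧸ K) = c := fun c => QuotientGroup.out_eq' c
      -- every point lies in exactly one translate of F
      have hcos : ∀ (c : G ⧸ K) (g : G), (r c)⁻¹ • g • a ∈ F ↔ (QuotientGroup.mk g : G ⧸ K) = c := by
        intro c g
        constructor
        · intro h
          have := hmemK ((r c)⁻¹ * g) (by rwa [mul_smul])
          rw [← hr c]
          exact (QuotientGroup.eq.mpr this).symm
        · intro h
          refine ⟨(r c)⁻¹ * g, ?_, mul_smul _ _ _⟩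
          rw [← QuotientGroup.eq]
          exact (hr c).trans h.symm
      have huniq : ∀ (x : Ω) (c c' : G ⧸ K), (r c)⁻¹ • x ∈ F → (r c')⁻¹ • x ∈ F → c = c' := by
        intro x c c' h h'
        obtain ⟨g, rfl⟩ := MulAction.exists_smul_eq G a x
        exact ((hcos c g).mp h).symm.trans ((hcos c' g).mp h')
      have hex : ∀ x : Ω, ∃ c : G ⧸ K, (r c)⁻¹ • x ∈ F := by
        intro x
        obtain ⟨g', rfl⟩ := MulAction.exists_smul_eq G a x
        exact ⟨QuotientGroup.mk g', (hcos _ g').mpr rfl⟩
      choose blk hblk using hex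
      let col : Fin 5 → Ω → Fin 5 := fun i x => cF (cT i (blk x)) (⟨_, hblk x⟩ : FS)
      have hX : ∀ i (c : G ⧸ K) (y : FS), col i (r c • y.1) = cF (cT i c) y := by
        intro i c y
        have hy : (r c)⁻¹ • r c • y.1 ∈ F := by rw [inv_smul_smul]; exact y.2
        have he := huniq _ _ _ (hblk (r c • y.1)) hy
        simp only [col]
        congr 1
        · rw [he]
        · exact Subtype.ext (by show (r (blk (r c • y.1)))⁻¹ • r c • y.1 = y.1; rw [he, inv_smul_smul])
      refine ⟨col, fun g i j hg => ?_⟩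
      let kk : G ⧸ K → K := fun c => ⟨(r (g • c))⁻¹ * g * r c, by
        rw [mul_assoc, ← QuotientGroup.eq, hr]
        conv_lhs => rw [← hr c]
        rfl⟩
      have hk : ∀ (c : G ⧸ K) (y : FS), cF (cT i (g • c)) (kk c • y) = cF (cT j c) y := by
        intro c y
        rw [← hX, ← hX]
        have : r (g • c) • (kk c • y).1 = g • r c • y.1 := by
          show r (g • c) • ((r (g • c))⁻¹ * g * r c) • y.1 = _
          rw [mul_smul, mul_smul, smul_inv_smul]
        rw [this]; exact hg _
      obtain ⟨hij, hc1⟩ := hcT g i j fun c => (hcF (kk c) _ _ (hk c)).1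
      refine ⟨hij, fun x => ?_⟩
      obtain ⟨c, hxc⟩ : ∃ c : G ⧸ K, (r c)⁻¹ • x ∈ F := ⟨blk x, hblk x⟩
      have hfixy := (hcF (kk c) _ _ (hk c)).2 (⟨_, hxc⟩ : FS)
      have h2 : ((r (g • c))⁻¹ * g * r c) • (r c)⁻¹ • x = (r c)⁻¹ • x := congrArg Subtype.val hfixy
      rw [hc1 c, mul_smul, mul_smul, smul_inv_smul] at h2
      exact MulAction.injective _ h2

end CfsgLib.BaseThree
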