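import Cfsg.Agent.Lib.BaseThree.Setup
/-
Eigenlines for the layer: the stabiliser `X` of a best line `K u` in the layer, its centraliser
`Y`, and the structure of `Y` over `X` (at most a four-group).
-/
set_option autoImplicit false
set_option linter.unusedSectionVars false

universe u

open scoped commutatorElement

namespace CfsgLib.BaseThree

variable {K V H : Type u} [Field K] [Finite K] [AddCommGroup V] [Finite V] [Nontrivial V]
  [Module K V] [Group H] [Finite H] [DistribMulAction H V] [FaithfulSMul H V]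

namespace Setup

variable (S : Setup K V H)

/-- every element of the layer has squarefree order modulo the scalars -/
theorem exists_squarefree_exponent (hC : S.C ≠ S.A) :
    ∃ N : ℕ, Squarefree N ∧ (∀ r : ℕ, r.Prime → r ∣ N → r ∣ Nat.card K - 1) ∧
      ∀ b ∈ S.B, b ^ N ∈ S.A := by
  classical
  have hAB := S.A_le_B hC
  have hpos : S.A.relIndex S.B ≠ 0 := Subgroup.index_ne_zero_of_finite
  refine ⟨∏ r ∈ (S.A.relIndex S.B).primeFactors, r, ?_, ?_, ?_⟩
  · rw [Nat.squarefree_iff_prime_squarefree]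
    intro r hr hdvd
    have hset := (S.A.relIndex S.B).primeFactors
    have hr1 : r ∣ ∏ q ∈ (S.A.relIndex S.B).primeFactors, q := dvd_trans (dvd_mul_right r r) hdvd
    obtain ⟨q, hq, hrq⟩ := (hr.prime.dvd_finsetProd_iff _).mp hr1
    have hrq' : r = q := (Nat.prime_dvd_prime_iff_eq hr (Nat.prime_of_mem_primeFactors hq)).mp hrq
    subst hrq'
    rw [← Finset.mul_prod_erase _ _ hq] at hdvd
    obtain ⟨q, hq', hrq'⟩ := (hr.prime.dvd_finsetProd_iff _).mp (Nat.dvd_of_mul_dvd_mul_left hr.pos hdvd)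
    exact (Finset.mem_erase.mp hq').1 ((Nat.prime_dvd_prime_iff_eq hr
      (Nat.prime_of_mem_primeFactors (Finset.mem_of_mem_erase hq'))).mp hrq').symm
  · intro r hr hdvd
    obtain ⟨q, hq, hrq⟩ := (hr.prime.dvd_finsetProd_iff _).mp hdvd
    rw [(Nat.prime_dvd_prime_iff_eq hr (Nat.prime_of_mem_primeFactors hq)).mp hrq]
    exact S.prime_dvd_sub_one hC (Nat.prime_of_mem_primeFactors hq) (Nat.dvd_of_mem_primeFactors hq)
  · set N := ∏ r ∈ (S.A.relIndex S.B).primeFactors, r with hN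
    have := S.normal
    have := S.B_normal
    have hmul : ∀ a ∈ S.B, ∀ b ∈ S.B, ∀ n : ℕ,
        (QuotientGroup.mk ((a * b) ^ n) : H ⧸ S.A) =
          QuotientGroup.mk (a ^ n) * QuotientGroup.mk (b ^ n) := by
      intro a ha b hb n
      have hc : Commute (QuotientGroup.mk a : H ⧸ S.A) (QuotientGroup.mk b) := by
        refine commutatorElement_eq_one_iff_commute.mp ?_
        exact (QuotientGroup.eq_one_iff _).mpr (S.B_comm a ha b hb)
      rw [QuotientGroup.mk_pow, QuotientGroup.mk_pow, QuotientGroup.mk_pow, QuotientGroup.mk_mul,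
        hc.mul_pow]
    let T : ℕ → Subgroup H := fun n =>
      { carrier := {b | b ∈ S.B ∧ b ^ n ∈ S.A}
        one_mem' := ⟨one_mem _, by rw [one_pow]; exact one_mem _⟩
        mul_mem' := fun {a b} ha hb => ⟨mul_mem ha.1 hb.1, (QuotientGroup.eq_one_iff _).mp (by
          rw [hmul a ha.1 b hb.1, (QuotientGroup.eq_one_iff _).mpr ha.2,
            (QuotientGroup.eq_one_iff _).mpr hb.2, one_mul])⟩
        inv_mem' := fun {a} ha => ⟨inv_mem ha.1, by rw [inv_pow]; exact inv_mem ha.2⟩ }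
    intro b hb
    refine ((show S.B ≤ T N from sSup_le fun D hD => ?_) hb).2
    by_cases hone : D.map (QuotientGroup.mk' S.A) = ⊥
    · intro d hd
      refine ⟨S.le_B hD hd, pow_mem ((QuotientGroup.eq_one_iff d).mp ?_) _⟩
      exact (Subgroup.eq_bot_iff_forall _).mp hone _ ⟨d, hd, rfl⟩
    have hne1 : Nat.card (D.map (QuotientGroup.mk' S.A)) ≠ 1 :=
      fun h => hone (Subgroup.card_eq_one.mp h)
    obtain ⟨r, hr, hrd⟩ := Nat.exists_prime_and_dvd hne1
    have : Fact r.Prime := ⟨hr⟩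
    obtain ⟨q, hq⟩ := exists_prime_orderOf_dvd_card' r hrd
    obtain ⟨d, hd, hdq⟩ := q.2
    have hq' : orderOf (QuotientGroup.mk d : H ⧸ S.A) = r := by
      rw [← hq, ← Subgroup.orderOf_coe, ← hdq]; rfl
    have hdr : d ^ r ∈ S.A := (QuotientGroup.eq_one_iff _).mp (by
      rw [QuotientGroup.mk_pow, ← hq', pow_orderOf_eq_one])
    have hdA : d ∉ S.A := fun h => hr.one_lt.ne' (by
      rw [← hq', orderOf_eq_one_iff]; exact (QuotientGroup.eq_one_iff _).mpr h)
    have hTn : (D ⊓ T r).Normal := ⟨fun x hx g => ⟨hD.1.conj_mem x hx.1 g,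
      S.B_normal.conj_mem x hx.2.1 g, by rw [conj_pow]; exact S.normal.conj_mem _ hx.2.2 g⟩⟩
    have hAT : S.A ≤ D ⊓ T r := fun a ha => ⟨hD.2.1.le ha, hAB ha, pow_mem ha r⟩
    have hDT : D ⊓ T r = D := (hD.2.2.2 _ hTn hAT inf_le_left).resolve_left fun h =>
      hdA (h ▸ ⟨hd, S.le_B hD hd, hdr⟩)
    have hrN : r ∣ N := by
      refine Finset.dvd_prod_of_mem (fun q : ℕ => q) (Nat.mem_primeFactors.mpr ⟨hr, ?_, hpos⟩)
      have h1 : orderOf (⟨d, S.le_B hD hd⟩ : S.B) ∣ Nat.card S.B := orderOf_dvd_natCard _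
      have h2 : orderOf (QuotientGroup.mk (⟨d, S.le_B hD hd⟩ : S.B) :
          S.B ⧸ S.A.subgroupOf S.B) = r := by
        refine orderOf_eq_prime ?_ fun h => hdA (Subgroup.mem_subgroupOf.mp ((QuotientGroup.eq_one_iff _).mp h))
        rw [← QuotientGroup.mk_pow, QuotientGroup.eq_one_iff]
        exact hdr
      rw [← h2]; exact orderOf_dvd_natCard _
    intro x hx
    obtain ⟨-, hxB, hxr⟩ : x ∈ D ⊓ T r := hDT.symm ▸ hx
    obtain ⟨m, hm⟩ := hrN
    exact ⟨hxB, by rw [hm, pow_mul]; exact pow_mem hxr m⟩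

/-- the elements of the layer having `u` as an eigenvector -/
def X (u : V) : Subgroup H where
  carrier := {b | b ∈ S.B ∧ ∃ c : K, b • u = c • u}
  one_mem' := ⟨one_mem _, 1, by rw [one_smul, one_smul]⟩
  mul_mem' := fun {a b} ha hb => ⟨mul_mem ha.1 hb.1, by
    obtain ⟨c, hc⟩ := ha.2
    obtain ⟨c', hc'⟩ := hb.2
    exact ⟨c' * c, by rw [mul_smul, hc', S.C_linear (S.B_le_C ha.1), hc, smul_smul]⟩⟩
  inv_mem' := fun {a} ha => ⟨inv_mem ha.1, by
    obtain ⟨c, hc⟩ := ha.2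
    have h : u = c • a⁻¹ • u := by
      conv_lhs => rw [← inv_smul_smul a u, hc, S.C_linear (inv_mem (S.B_le_C ha.1))]
    by_cases hc0 : c = 0
    · rw [hc0, zero_smul] at h
      exact ⟨0, by rw [h, smul_zero, smul_zero]⟩
    · exact ⟨c⁻¹, by conv_rhs => rw [h, smul_smul, inv_mul_cancel₀ hc0, one_smul]⟩⟩

/-- the centraliser of `X` in the layer -/
def Y (u : V) : Subgroup H := S.B ⊓ Subgroup.centralizer (S.X u : Set H)

/-- the common eigenspace of `X` containing `u` -/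
def E (u : V) : Submodule K V where
  carrier := {v | ∀ x ∈ S.X u, ∀ c : K, x • u = c • u → x • v = c • v}
  zero_mem' := fun x _ c _ => by rw [smul_zero, smul_zero]
  add_mem' := fun {a b} ha hb x hx c hc => by rw [smul_add, ha x hx c hc, hb x hx c hc, smul_add]
  smul_mem' := fun k v hv x hx c hc => by
    rw [S.C_linear (S.B_le_C hx.1), hv x hx c hc, smul_comm]

theorem mem_E_self (u : V) : u ∈ S.E u := fun _ _ _ hc => hc

theorem A_le_X (hC : S.C ≠ S.A) (u : V) : S.A ≤ S.X u :=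
  fun a ha => ⟨S.A_le_B hC ha, S.χ' a, S.χ'_spec ha u⟩

theorem X_comm {u : V} (hu : u ≠ 0) : ∀ x ∈ S.X u, ∀ y ∈ S.X u, x * y = y * x := by
  intro x hx y hy
  obtain ⟨c, hc⟩ := hx.2
  obtain ⟨d, hd⟩ := hy.2
  have h1 : (x * y) • u = (y * x) • u := by
    rw [mul_smul, mul_smul, hd, hc, S.C_linear (S.B_le_C hx.1), S.C_linear (S.B_le_C hy.1), hd, hc,
      smul_comm]
  have h2 : ⁅x, y⁆ • (y * x) • u = (y * x) • u := by
    rw [← mul_smul, show ⁅x, y⁆ * (y * x) = x * y by simp only [commutatorElement_def]; group, h1]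
  exact commutatorElement_eq_one_iff_mul_comm.mp
    (S.A_fix_trivial (S.B_comm x hx.1 y hy.1) ((smul_ne_zero_iff_ne _).mpr hu) h2)

theorem X_le_Y {u : V} (hu : u ≠ 0) : S.X u ≤ S.Y u := fun x hx =>
  ⟨hx.1, Subgroup.mem_centralizer_iff.mpr fun y hy => S.X_comm hu y hy x hx⟩

theorem Y_preserves_E {u : V} {y : H} (hy : y ∈ S.Y u) {v : V} (hv : v ∈ S.E u) :
    y • v ∈ S.E u := fun x hx c hc => by
  rw [← mul_smul, Subgroup.mem_centralizer_iff.mp hy.2 x hx, mul_smul, hv x hx c hc,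
    S.C_linear (S.B_le_C hy.1)]

/-- `u` has a largest stabiliser -/
def IsBest (u : V) : Prop := u ≠ 0 ∧ ∀ v : V, v ≠ 0 → Nat.card (S.X v) ≤ Nat.card (S.X u)

theorem exists_best : ∃ u : V, S.IsBest u := by
  classical
  obtain ⟨v0, hv0⟩ := exists_ne (0 : V)
  obtain ⟨u, hu, hmax⟩ := Finset.exists_max_image (Set.toFinite {v : V | v ≠ 0}).toFinset
    (fun v => Nat.card (S.X v)) ⟨v0, (Set.Finite.mem_toFinset _).mpr hv0⟩
  exact ⟨u, (Set.Finite.mem_toFinset _).mp hu,
    fun v hv => hmax v ((Set.Finite.mem_toFinset _).mpr hv)⟩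

theorem mem_X_of_eigen {u : V} (hu : S.IsBest u) {y : H} (hy : y ∈ S.B) {z : V}
    (hz : z ∈ S.E u) (hz0 : z ≠ 0) {c : K} (hyz : y • z = c • z) : y ∈ S.X u := by
  have hle : S.X u ≤ S.X z := fun x hx => by
    obtain ⟨d, hd⟩ := hx.2
    exact ⟨hx.1, d, hz x hx d hd⟩
  rw [Subgroup.eq_of_le_of_card_ge hle (hu.2 z hz0)]
  exact ⟨hy, c, hyz⟩

/-- an element outside `X` has no power scalar on `u` being a power -/
theorem mem_X_of_root {u : V} (hu : S.IsBest u) {r : ℕ} (hr : r.Prime)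
    (hrK : r ∣ Nat.card K - 1) {y : H} (hy : y ∈ S.Y u) {s : K}
    (hpow : (y ^ r) • u = s ^ r • u) : y ∈ S.X u := by
  classical
  by_cases hs : s = 0
  · rw [hs, zero_pow hr.ne_zero, zero_smul] at hpow
    exact absurd ((smul_eq_zero_iff_eq _).mp hpow) hu.1
  have : Fact r.Prime := ⟨hr⟩
  obtain ⟨z, hz⟩ := exists_prime_orderOf_dvd_card' (G := Kˣ) r (by rwa [Nat.card_units])
  have hζ : IsPrimitiveRoot (z : K) r := by
    rw [IsPrimitiveRoot.coe_units_iff, ← hz]; exact IsPrimitiveRoot.orderOf z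
  set ζ : K := (z : K) with hζdef
  let w : ℕ → V := fun i => ∑ j ∈ Finset.range r, ((ζ ^ i * s)⁻¹) ^ j • (y ^ j) • u
  have hts : ∀ i, ζ ^ i * s ≠ 0 := fun i => mul_ne_zero (pow_ne_zero _ (Units.ne_zero z)) hs
  have hw : ∀ i, y • w i = (ζ ^ i * s) • w i := by
    intro i
    set t := ζ ^ i * s with ht
    let a : ℕ → V := fun j => (t⁻¹) ^ j • (y ^ j) • u
    have hstep : ∀ j, y • a j = t • a (j + 1) := by
      intro j
      simp only [a]
      rw [S.C_linear (S.B_le_C hy.1), smul_smul, ← mul_smul, ← pow_succ', pow_succ' (t⁻¹), ← mul_assoc,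
        mul_inv_cancel₀ (hts i), one_mul]
    have hlast : a r = a 0 := by
      simp only [a, pow_zero, one_smul]
      rw [hpow, smul_smul, inv_pow, show t ^ r = s ^ r by
        rw [ht, mul_pow, ← pow_mul, mul_comm i r, pow_mul, hζ.pow_eq_one, one_pow, one_mul],
        inv_mul_cancel₀ (pow_ne_zero _ hs), one_smul]
    show y • ∑ j ∈ Finset.range r, a j = t • ∑ j ∈ Finset.range r, a j
    rw [Finset.smul_sum, Finset.sum_congr rfl fun j _ => hstep j, ← Finset.smul_sum]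
    congr 1
    have h1 := Finset.sum_range_succ a r
    rw [Finset.sum_range_succ', hlast] at h1
    exact add_right_cancel h1
  have hwE : ∀ i, w i ∈ S.E u := fun i => sum_mem fun j _ =>
    (S.E u).smul_mem _ (S.Y_preserves_E (pow_mem hy j) (S.mem_E_self u))
  have hrK0 : (r : K) ≠ 0 := by
    obtain ⟨p, hp⟩ := CharP.exists K
    have hpp : p.Prime := CharP.char_is_prime K p
    intro h
    rw [CharP.cast_eq_zero_iff K p, Nat.prime_dvd_prime_iff_eq hpp hr] at h
    subst h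
    have : Fintype K := Fintype.ofFinite K
    obtain ⟨n, -, hn⟩ := FiniteField.card K p
    rw [Nat.card_eq_fintype_card, hn] at hrK
    have h2 : p ∣ p ^ (n : ℕ) := dvd_pow_self p n.pos.ne'
    have h3 := Nat.dvd_sub h2 hrK
    rw [Nat.sub_sub_self (Nat.one_le_pow _ _ hr.pos), Nat.dvd_one] at h3
    exact hr.one_lt.ne' h3
  have hne : ∃ i, w i ≠ 0 := by
    by_contra h
    push Not at h
    have h1 : ∑ i ∈ Finset.range r, w i = (r : K) • u := by
      rw [Finset.sum_comm, Finset.sum_eq_single 0]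
      · simp [← Nat.cast_smul_eq_nsmul K]
      · intro j hj hj0
        rw [← Finset.sum_smul]
        have hgeom : ∑ i ∈ Finset.range r, ((ζ ^ i * s)⁻¹) ^ j = 0 := by
          have : ∀ i, ((ζ ^ i * s)⁻¹) ^ j = ((ζ⁻¹) ^ j) ^ i * (s⁻¹) ^ j := by
            intro i
            rw [mul_inv, mul_pow, inv_pow, inv_pow, inv_pow, inv_pow, ← pow_mul, ← pow_mul, mul_comm i j]
          rw [Finset.sum_congr rfl fun i _ => this i, ← Finset.sum_mul]
          have hx : IsPrimitiveRoot ((ζ⁻¹) ^ j) r := hζ.inv.pow_of_coprime j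
            ((hr.coprime_iff_not_dvd.mpr fun hd => hj0 (Nat.eq_zero_of_dvd_of_lt hd
              (Finset.mem_range.mp hj))).symm)
          rw [hx.geom_sum_eq_zero hr.one_lt, zero_mul]
        rw [hgeom, zero_smul]
      · intro h0; exact absurd (Finset.mem_range.mpr hr.pos) h0
    rw [Finset.sum_eq_zero fun i _ => h i] at h1
    exact hu.1 ((smul_eq_zero.mp h1.symm).resolve_left hrK0)
  obtain ⟨i, hi⟩ := hne
  exact S.mem_X_of_eigen hu hy.1 (hwE i) hi (hw i)

/-- an element of `Y` commuting with all of `Y` lies in `X` -/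
theorem mem_X_of_central (hC : S.C ≠ S.A) {u : V} (hu : S.IsBest u) {y : H} (hy : y ∈ S.Y u)
    (hyc : ∀ b ∈ S.Y u, y * b = b * y) : y ∈ S.X u := by
  let Z : Subgroup H := S.Y u ⊓ Subgroup.centralizer (S.Y u : Set H)
  have hXZ : S.X u ≤ Z := fun x hx => ⟨S.X_le_Y hu.1 hx,
    Subgroup.mem_centralizer_iff.mpr fun b hb =>
      (Subgroup.mem_centralizer_iff.mp (hb : b ∈ S.Y u).2 x hx).symm⟩
  have hXC : S.X u ≤ S.C := fun x hx => S.B_le_C hx.1
  have hZC : Z ≤ S.C := fun x hx => S.B_le_C hx.1.1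
  have h1 := S.relIndex_le S.B (S.X u) S.A S.B_le_C hXC (fun b hb x hx => S.B_comm b hb x hx.1)
    (fun b hb a ha => (S.A_central ha (S.B_le_C hb)).symm)
  have e1 : (Subgroup.centralizer (S.X u : Set H)).relIndex S.B = (S.Y u).relIndex S.B := by
    rw [← Subgroup.inf_relIndex_right (Subgroup.centralizer _), inf_comm]
    rfl
  rw [e1] at h1
  have h2 := S.relIndex_le Z S.B (S.Y u) hZC S.B_le_C (fun z hz b hb => S.B_comm z hz.1.1 b hb)
    (fun z hz b hb => (Subgroup.mem_centralizer_iff.mp hz.2 b hb).symm)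
  rw [S.centralizer_B_relIndex hC hZC, ← Subgroup.relIndex_mul_relIndex S.A (S.X u) Z (S.A_le_X hC u) hXZ] at h2
  have hpos : 0 < S.A.relIndex (S.X u) := Nat.pos_of_ne_zero Subgroup.index_ne_zero_of_finite
  have hpos' : 0 < (S.X u).relIndex Z := Nat.pos_of_ne_zero Subgroup.index_ne_zero_of_finite
  have h3 : (S.X u).relIndex Z = 1 := by nlinarith
  exact Subgroup.relIndex_eq_one.mp h3 ⟨hy, Subgroup.mem_centralizer_iff.mpr fun b hb => (hyc b hb).symm⟩

theorem comm_pow {x y : H} (hx : x ∈ S.B) (hy : y ∈ S.B) (n : ℕ) :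
    ⁅x, y ^ n⁆ = ⁅x, y⁆ ^ n := by
  induction n with
  | zero => simp
  | succ n ih =>
    rw [pow_succ', S.comm_mul_right (S.B_le_C hy) (S.B_comm x hx _ (pow_mem hy n)), ih, pow_succ']

theorem mul_pow_comm {x y : H} (hx : x ∈ S.B) (hy : y ∈ S.B) (n : ℕ) :
    (x * y) ^ n = x ^ n * y ^ n * ⁅y, x⁆ ^ n.choose 2 := by
  set z := ⁅y, x⁆ with hz
  have hzA : z ∈ S.A := S.B_comm y hy x hx
  have hyx : ∀ m : ℕ, y ^ m * x = x * y ^ m * z ^ m := by
    intro m
    induction m with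
    | zero => simp
    | succ m ih =>
      have hyx1 : y * x = x * y * z := by
        rw [mul_assoc, ← S.A_central hzA (S.B_le_C hy), ← mul_assoc,
          ← S.A_central hzA (S.B_le_C hx), hz]
        simp only [commutatorElement_def]; group
      calc y ^ (m + 1) * x = y * (y ^ m * x) := by rw [pow_succ', mul_assoc]
        _ = y * x * y ^ m * z ^ m := by rw [ih]; group
        _ = x * y * (z * y ^ m) * z ^ m := by rw [hyx1]; group
        _ = x * y ^ (m + 1) * z ^ (m + 1) := by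
          rw [S.A_central hzA (pow_mem (S.B_le_C hy) m), pow_succ', pow_succ']; group
  induction n with
  | zero => simp
  | succ n ih =>
    have hc : ∀ k : ℕ, z ^ k * x = x * z ^ k := fun k =>
      S.A_central (pow_mem hzA k) (S.B_le_C hx)
    have hc' : ∀ k : ℕ, z ^ k * y = y * z ^ k := fun k =>
      S.A_central (pow_mem hzA k) (S.B_le_C hy)
    calc (x * y) ^ (n + 1) = x ^ n * y ^ n * (z ^ n.choose 2 * x) * y := by
          rw [pow_succ, ih]; group
      _ = x ^ n * (y ^ n * x) * (z ^ n.choose 2 * y) := by rw [hc]; group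
      _ = x ^ (n + 1) * y ^ n * (z ^ n * y) * z ^ n.choose 2 := by rw [hyx, hc']; group
      _ = x ^ (n + 1) * y ^ (n + 1) * (z ^ n * z ^ n.choose 2) := by rw [hc']; group
      _ = _ := by
          rw [← pow_add, Nat.choose_succ_succ' n 1, Nat.choose_one_right, Nat.add_comm]

/-- elements of `Y` whose powers by a prime are in `X` -/
theorem exists_pow_mem {u : V} {r : ℕ} (hr : r.Prime) (hrK : r ∣ Nat.card K - 1)
    (hu : S.IsBest u) {a b : H} (ha : a ∈ S.Y u) (hb : b ∈ S.Y u) (har : a ^ r ∈ S.X u)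
    (hbr : b ^ r ∈ S.X u) (haX : a ∉ S.X u)
    (hodd : r ≠ 2 ∨ a * b = b * a) (hC : S.C ≠ S.A) : ∃ k : ℕ, b * a ^ k ∈ S.X u := by
  classical
  have : Fact r.Prime := ⟨hr⟩
  obtain ⟨ca, hca⟩ := har.2
  obtain ⟨cb, hcb⟩ := hbr.2
  have hca0 : ca ≠ 0 := fun h => hu.1 ((smul_eq_zero_iff_eq _).mp (by rw [hca, h, zero_smul]))
  have hcb0 : cb ≠ 0 := fun h => hu.1 ((smul_eq_zero_iff_eq _).mp (by rw [hcb, h, zero_smul]))
  obtain ⟨g, hg⟩ := IsCyclic.exists_monoid_generator (α := Kˣ)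
  obtain ⟨i, hi⟩ := Submonoid.mem_powers_iff _ _ |>.mp (hg (Units.mk0 ca hca0))
  obtain ⟨j, hj⟩ := Submonoid.mem_powers_iff _ _ |>.mp (hg (Units.mk0 cb hcb0))
  have hi' : ca = (g : K) ^ i := by simpa using (congrArg Units.val hi).symm
  have hj' : cb = (g : K) ^ j := by simpa using (congrArg Units.val hj).symm
  have hndvd : ¬ r ∣ i := by
    rintro ⟨m, rfl⟩
    refine haX (S.mem_X_of_root hu hr hrK ha (s := (g : K) ^ m) ?_)
    rw [hca, hi', ← pow_mul, mul_comm m r]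
  obtain ⟨k, hk⟩ : ∃ k : ℕ, r ∣ j + i * k := by
    have hi0 : (i : ZMod r) ≠ 0 := fun h => hndvd ((ZMod.natCast_eq_zero_iff i r).mp h)
    refine ⟨(-(j : ZMod r) / (i : ZMod r)).val, (ZMod.natCast_eq_zero_iff _ r).mp ?_⟩
    push_cast
    simp [ZMod.natCast_zmod_val, mul_div_cancel₀ _ hi0]
  obtain ⟨m, hm⟩ := hk
  refine ⟨k, S.mem_X_of_root hu hr hrK (mul_mem hb (pow_mem ha k)) (s := (g : K) ^ m) ?_⟩
  have hz : ⁅a ^ k, b⁆ ^ r.choose 2 = 1 := by
    rcases hodd with h | h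
    · obtain ⟨t, ht⟩ := hr.dvd_choose_self (by norm_num : (2 : ℕ) ≠ 0)
        (lt_of_le_of_ne hr.two_le (Ne.symm h))
      rw [ht, pow_mul, ← S.comm_pow (pow_mem ha.1 k) hb.1, commutatorElement_eq_one_iff_mul_comm.mpr
        (Subgroup.mem_centralizer_iff.mp (pow_mem ha k : a ^ k ∈ S.Y u).2 _ hbr).symm, one_pow]
    · rw [commutatorElement_eq_one_iff_mul_comm.mpr (Commute.pow_left h k).eq, one_pow]
  have hak : ∀ l : ℕ, ((a ^ r) ^ l) • u = ca ^ l • u := by
    intro l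
    induction l with
    | zero => simp
    | succ l ih =>
      rw [pow_succ, mul_smul, hca, S.C_linear (S.B_le_C (pow_mem (pow_mem ha.1 r) l)), ih, smul_smul,
        pow_succ']
  rw [S.mul_pow_comm hb.1 (pow_mem ha.1 k), hz, mul_one, mul_smul, ← pow_mul, mul_comm k r,
    pow_mul, hak, S.C_linear (S.B_le_C (pow_mem hb.1 r)), hcb, smul_smul, hi', hj', ← pow_mul,
    ← pow_add, ← pow_mul]
  congr 2
  rw [mul_comm m r, ← hm, Nat.add_comm]

/-- squares of `Y` lie in `X` -/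
theorem sq_mem_X (hC : S.C ≠ S.A) {u : V} (hu : S.IsBest u) {y : H} (hy : y ∈ S.Y u) :
    y ^ 2 ∈ S.X u := by
  obtain ⟨N, hN, hNK, hNB⟩ := S.exists_squarefree_exponent hC
  by_contra h2
  -- some prime part of `y` of odd order lies outside `X`
  have hyN : y ^ N ∈ S.X u := S.A_le_X hC u (hNB y hy.1)
  have hex : ∃ r, r.Prime ∧ r ≠ 2 ∧ r ∣ N ∧ y ^ (N / r) ∉ S.X u := by
    by_contra h
    push Not at h
    let I : AddSubgroup ℤ :=
      { carrier := {n | y ^ n ∈ S.X u}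
        zero_mem' := by simp
        add_mem' := fun {a b} (ha : y ^ a ∈ S.X u) (hb : y ^ b ∈ S.X u) => by
          show y ^ (a + b) ∈ S.X u
          rw [zpow_add]; exact mul_mem ha hb
        neg_mem' := fun {a} (ha : y ^ a ∈ S.X u) => by
          show y ^ (-a) ∈ S.X u
          rw [zpow_neg]; exact inv_mem ha }
    obtain ⟨d, hd⟩ := Int.subgroup_cyclic I
    have hmem : ∀ n : ℕ, y ^ n ∈ S.X u → d.natAbs ∣ n := by
      intro n hn
      have : (n : ℤ) ∈ I := by show y ^ (n : ℤ) ∈ S.X u; rwa [zpow_natCast]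
      rw [hd, ← AddSubgroup.zmultiples_eq_closure, Int.mem_zmultiples_iff] at this
      simpa using Int.natAbs_dvd_natAbs.mpr this
    have hdN := hmem N hyN
    have hdy : y ^ d.natAbs ∈ S.X u := by
      have hdI : d ∈ I := by rw [hd]; exact AddSubgroup.subset_closure rfl
      have hdI' : y ^ d ∈ S.X u := hdI
      rcases Int.natAbs_eq d with h' | h'
      · rw [h', zpow_natCast] at hdI'; exact hdI'
      · rw [h', zpow_neg, zpow_natCast] at hdI'; exact inv_mem_iff.mp hdI'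
    have hd2 : ∀ r, r.Prime → r ∣ d.natAbs → r = 2 := by
      intro r hr hrd
      by_contra hr2
      have hrN : r ∣ N := hrd.trans hdN
      have h1 := hmem _ (h r hr hr2 hrN)
      have : r * r ∣ N := by
        obtain ⟨m, hm⟩ := hrN
        rw [hm, Nat.mul_div_cancel_left _ hr.pos] at h1
        exact hm ▸ Nat.mul_dvd_mul_left r (hrd.trans h1)
      exact hr.one_lt.ne' (Nat.isUnit_iff.mp (hN r this))
    have hsq : Squarefree d.natAbs := hN.squarefree_of_dvd hdN
    have : d.natAbs ∣ 2 := by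
      rw [← Nat.prod_primeFactors_of_squarefree hsq]
      have hsub : d.natAbs.primeFactors ⊆ {2} := fun r hr => Finset.mem_singleton.mpr
        (hd2 r (Nat.prime_of_mem_primeFactors hr) (Nat.dvd_of_mem_primeFactors hr))
      exact (Finset.prod_dvd_prod_of_subset _ _ (fun r : ℕ => r) hsub).trans (by simp)
    obtain ⟨m, hm⟩ := this
    exact h2 (by rw [hm, pow_mul]; exact pow_mem hdy m)
  obtain ⟨r, hr, hr2, hrN, haX⟩ := hex
  set a := y ^ (N / r) with ha
  have haY : a ∈ S.Y u := pow_mem hy _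
  have har : a ^ r ∈ S.X u := by rw [ha, ← pow_mul, Nat.div_mul_cancel hrN]; exact hyN
  obtain ⟨b, hb, hab⟩ : ∃ b ∈ S.Y u, a * b ≠ b * a := by
    by_contra h
    push Not at h
    exact haX (S.mem_X_of_central hC hu haY h)
  have hne : ⁅a, b⁆ ≠ 1 := fun h => hab (commutatorElement_eq_one_iff_mul_comm.mp h)
  have hzr : ⁅a, b⁆ ^ r = 1 := by
    rw [← S.comm_pow haY.1 hb.1]
    have hbr : ∀ c ∈ S.Y u, ⁅a ^ r, c⁆ = 1 := fun c hc => commutatorElement_eq_one_iff_mul_comm.mpr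
      (Subgroup.mem_centralizer_iff.mp hc.2 _ har)
    have hc := hbr b hb
    rw [← commutatorElement_inv, inv_eq_one, S.comm_pow hb.1 haY.1] at hc
    rw [S.comm_pow haY.1 hb.1, ← inv_inv (⁅a, b⁆ ^ r), ← inv_pow, commutatorElement_inv, hc, inv_one]
  set b' := b ^ (N / r) with hb'def
  have hb'Y : b' ∈ S.Y u := pow_mem hb _
  have hb'r : b' ^ r ∈ S.X u := by
    rw [hb'def, ← pow_mul, Nat.div_mul_cancel hrN]; exact S.A_le_X hC u (hNB b hb.1)
  obtain ⟨k, hk⟩ := S.exists_pow_mem hr (hNK r hr hrN) hu haY hb'Y har hb'r haX (Or.inl hr2) hC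
  have hab' : ⁅a, b'⁆ = 1 := by
    have h1 : ⁅a, b' * a ^ k⁆ = 1 := commutatorElement_eq_one_iff_mul_comm.mpr
      (Subgroup.mem_centralizer_iff.mp haY.2 _ hk).symm
    have h2 : ⁅a, a ^ k⁆ = 1 :=
      commutatorElement_eq_one_iff_mul_comm.mpr (Commute.self_pow a k).eq
    rwa [S.comm_mul_right (S.B_le_C hb'Y.1) (S.B_comm _ haY.1 _ (pow_mem haY.1 k)), h2, mul_one] at h1
  rw [hb'def, S.comm_pow haY.1 hb.1] at hab'
  have ho : orderOf ⁅a, b⁆ = r := haveI : Fact r.Prime := ⟨hr⟩; orderOf_eq_prime hzr hne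
  have hd1 : r ∣ N / r := by
    have h' := orderOf_dvd_of_pow_eq_one hab'
    rwa [ho] at h'
  exact hr.one_lt.ne' (Nat.isUnit_iff.mp (hN r (by
    rw [← Nat.mul_div_cancel' hrN]; exact Nat.mul_dvd_mul_left r hd1)))

/-- `Y` is generated over `X` by at most two elements -/
theorem Y_structure (hC : S.C ≠ S.A) {u : V} (hu : S.IsBest u) (hne : S.Y u ≠ S.X u) :
    ∃ y1 ∈ S.Y u, ∃ y2 ∈ S.Y u, y1 ∉ S.X u ∧ y2 ∉ S.X u ∧ y2⁻¹ * y1 ∉ S.X u ∧
      ∀ b ∈ S.Y u, b ∈ S.X u ∨ y1⁻¹ * b ∈ S.X u ∨ y2⁻¹ * b ∈ S.X u ∨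
        (y2 * y1)⁻¹ * b ∈ S.X u := by
  obtain ⟨y1, hy1, hy1X⟩ := SetLike.exists_of_lt (lt_of_le_of_ne (S.X_le_Y hu.1) (Ne.symm hne))
  obtain ⟨y2, hy2, h12⟩ : ∃ b ∈ S.Y u, y1 * b ≠ b * y1 := by
    by_contra h
    push Not at h
    exact hy1X (S.mem_X_of_central hC hu hy1 h)
  have hy2X : y2 ∉ S.X u := fun h => h12 (Subgroup.mem_centralizer_iff.mp hy1.2 y2 h).symm
  obtain ⟨N, -, hNK, hNB⟩ := S.exists_squarefree_exponent hC
  have h2K : 2 ∣ Nat.card K - 1 := by
    refine hNK 2 Nat.prime_two ?_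
    rcases Nat.even_or_odd N with he | ⟨m, hm⟩
    · exact even_iff_two_dvd.mp he
    · exfalso
      refine hy1X ?_
      have h1 := S.A_le_X hC u (hNB y1 hy1.1)
      rw [hm, pow_succ, pow_mul] at h1
      exact (Subgroup.mul_mem_cancel_left _ (pow_mem (S.sq_mem_X hC hu hy1) m)).mp h1
  have hcent : ∀ b ∈ S.Y u, y1 * b = b * y1 → b ∈ S.X u ∨ y1⁻¹ * b ∈ S.X u := by
    intro b hb hc
    obtain ⟨k, hk⟩ := S.exists_pow_mem Nat.prime_two h2K hu hy1 hb (S.sq_mem_X hC hu hy1)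
      (S.sq_mem_X hC hu hb) hy1X (Or.inr hc) hC
    obtain ⟨m, hm⟩ := Nat.even_or_odd' k
    rcases hm with rfl | rfl
    · left
      rw [pow_mul] at hk
      exact (Subgroup.mul_mem_cancel_right _ (pow_mem (S.sq_mem_X hC hu hy1) m)).mp hk
    · right
      rw [pow_succ, pow_mul, ← mul_assoc] at hk
      have h1 : b * (y1 ^ 2) ^ m * y1 * ((y1 ^ 2) ^ (m + 1))⁻¹ ∈ S.X u :=
        mul_mem hk (inv_mem (pow_mem (S.sq_mem_X hC hu hy1) _))
      have h2 : Commute (y1⁻¹) b := Commute.inv_left hc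
      rw [h2.eq]
      convert h1 using 1
      group
  refine ⟨y1, hy1, y2, hy2, hy1X, hy2X, fun h => h12 ?_, fun b hb => ?_⟩
  · have h3 := Subgroup.mem_centralizer_iff.mp hy1.2 _ h
    have h4 : y2⁻¹ * y1 = y1 * y2⁻¹ := mul_right_cancel (h3.trans (mul_assoc _ _ _).symm)
    simpa using (Commute.inv_right (show Commute y1 y2⁻¹ from h4.symm)).eq
  · by_cases hc : y1 * b = b * y1
    · rcases hcent b hb hc with h | h
      · exact Or.inl h
      · exact Or.inr (Or.inl h)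
    · right; right
      have hcomm : y1 * (y2⁻¹ * b) = y2⁻¹ * b * y1 := by
        refine commutatorElement_eq_one_iff_mul_comm.mp ?_
        have hsq : ∀ c ∈ S.Y u, ⁅y1, c⁆ ^ 2 = 1 := fun c hc' => by
          rw [← S.comm_pow hy1.1 hc'.1]
          exact commutatorElement_eq_one_iff_mul_comm.mpr
            (Subgroup.mem_centralizer_iff.mp hy1.2 _ (S.sq_mem_X hC hu hc')).symm
        rw [S.comm_mul_right (S.B_le_C (inv_mem hy2.1)) (S.B_comm _ hy1.1 _ hb.1)]
        have hz2 : ∀ z ∈ S.A, z ^ 2 = 1 → z ≠ 1 → S.χ' z = -1 := by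
          intro z hz h2 hne1
          have : S.χ' z * S.χ' z = 1 := by rw [← S.χ'_mul hz hz, ← sq, h2, S.χ'_one]
          exact (mul_self_eq_one_iff.mp this).resolve_left fun h => hne1 (S.χ'_eq_one hz h)
        have ha := S.B_comm _ hy1.1 _ (inv_mem hy2.1)
        have hb' := S.B_comm _ hy1.1 _ hb.1
        refine S.χ'_eq_one (mul_mem ha hb') ?_
        rw [S.χ'_mul ha hb', hz2 _ ha (hsq _ (inv_mem hy2)) (fun h => h12 (by
            have h' : y1 * y2⁻¹ = y2⁻¹ * y1 := commutatorElement_eq_one_iff_mul_comm.mp h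
            simpa using (Commute.inv_right (h' : Commute y1 y2⁻¹)).eq)),
          hz2 _ hb' (hsq _ hb) (fun h => hc (commutatorElement_eq_one_iff_mul_comm.mp h)), neg_mul_neg,
          one_mul]
      rcases hcent _ (mul_mem (inv_mem hy2) hb) hcomm with h | h
      · exact Or.inl h
      · right
        rw [mul_inv_rev, mul_assoc]; exact h

end Setup

end CfsgLib.BaseThree
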