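import Cfsg.Agent.Lib.BaseThree.Basic
/-
From one three-point base of a solvable group on a nontrivial group of prime exponent to five
inequivalent ones: a solvable subgroup of `GL₃(p)` has index at least five.
-/
set_option autoImplicit false

universe u

open scoped commutatorElement

namespace CfsgLib.BaseThree

/-- the symmetric group on four letters is solvable -/
theorem isSolvable_perm_fin_four : Group.IsSolvable (Equiv.Perm (Fin 4)) := by
  have hc : ∀ a b : alternatingGroup (Fin 4), (a * b * a⁻¹ * b⁻¹) ^ 2 = 1 := by decide +kernel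
  let kl : Subgroup (alternatingGroup (Fin 4)) :=
    { carrier := {x | x ^ 2 = 1}
      one_mem' := one_pow 2
      mul_mem' := fun {a b} => by revert a b; decide +kernel
      inv_mem' := fun {a} ha => by
        show a⁻¹ ^ 2 = 1
        rw [inv_pow, (ha : a ^ 2 = 1), inv_one] }
  have hle : commutator (alternatingGroup (Fin 4)) ≤ kl := by
    rw [commutator_eq_closure, Subgroup.closure_le]
    rintro x ⟨a, b, rfl⟩
    rw [commutatorElement_def]
    exact hc a b
  have hcm : ∀ a ∈ commutator (alternatingGroup (Fin 4)), ∀ b ∈ commutator (alternatingGroup (Fin 4)),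
      a * b = b * a := by
    intro a ha b hb
    have ha' : a * a = 1 := by rw [← sq]; exact hle ha
    have hb' : b * b = 1 := by rw [← sq]; exact hle hb
    have hab : (a * b) * (a * b) = 1 := by rw [← sq]; exact kl.mul_mem (hle ha) (hle hb)
    calc a * b = (a * b)⁻¹ := (inv_eq_of_mul_eq_one_right hab).symm
      _ = b * a := by
        rw [_root_.mul_inv_rev, inv_eq_of_mul_eq_one_right ha', inv_eq_of_mul_eq_one_right hb']
  have : Group.IsSolvable (commutator (alternatingGroup (Fin 4))) :=
    Group.isSolvable_of_comm fun a b => Subtype.ext (hcm a a.2 b b.2)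
  have : Group.IsSolvable (alternatingGroup (Fin 4)) :=
    Group.isSolvable_of_ker_le_range (commutator _).subtype Abelianization.of
      (by rw [Abelianization.ker_of, Subgroup.range_subtype])
  exact Group.isSolvable_of_ker_le_range (alternatingGroup (Fin 4)).subtype Equiv.Perm.sign
    (by rw [Subgroup.range_subtype]; exact le_of_eq rfl)

variable {F : Type*} [Field F]

/-- an elementary matrix as a unit -/
def elem (i j : Fin 3) (h : i ≠ j) (c : F) : GL (Fin 3) F where
  val := Matrix.transvection i j c
  inv := Matrix.transvection i j (-c)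
  val_inv := by rw [Matrix.transvection_mul_transvection_same _ _ h]; simp
  inv_val := by rw [Matrix.transvection_mul_transvection_same _ _ h]; simp

theorem elem_comm (i j k : Fin 3) (hij : i ≠ j) (hjk : j ≠ k) (hik : i ≠ k) :
    ⁅elem i j hij (1 : F), elem j k hjk (1 : F)⁆ = elem i k hik (1 : F) := by
  apply Units.ext
  simp only [commutatorElement_def, Units.val_mul]
  show Matrix.transvection i j (1 : F) * Matrix.transvection j k 1 *
    Matrix.transvection i j (-1) * Matrix.transvection j k (-1) = Matrix.transvection i k 1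
  simp [Matrix.transvection, mul_add, add_mul, hij.symm, hjk.symm, hik.symm, ← Matrix.single_neg]
  abel

theorem not_isSolvable_GL3 : ¬ Group.IsSolvable (GL (Fin 3) F) := by
  intro hs
  have hall : ∀ n, ∀ i j : Fin 3, ∀ h : i ≠ j, elem i j h (1 : F) ∈ derivedSeries (GL (Fin 3) F) n := by
    intro n
    induction n with
    | zero => intro i j h; simp
    | succ n ih =>
      intro i j h
      obtain ⟨k, hik, hkj⟩ : ∃ k : Fin 3, i ≠ k ∧ k ≠ j := by revert h; revert i j; decide
      rw [← elem_comm i k j hik hkj h, derivedSeries_succ]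
      exact Subgroup.commutator_mem_commutator (ih i k hik) (ih k j hkj)
  obtain ⟨n, hn⟩ := hs.solvable
  have h1 := hall n 0 1 (by decide)
  rw [hn, Subgroup.mem_bot] at h1
  have h2 := congrArg (fun M : GL (Fin 3) F => (M : Matrix (Fin 3) (Fin 3) F) 0 1) h1
  simp [elem, Matrix.transvection] at h2

variable {A U : Type u} [Group A] [Finite A] [AddCommGroup U] [Finite U] [DistribMulAction A U]

/-- five inequivalent triples, each with trivial stabiliser -/
theorem five_triples (hs : Group.IsSolvable A) [Nontrivial U] {p : ℕ} (hp : p.Prime)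
    (hexp : ∀ x : U, p • x = 0) (v : Fin 3 → U)
    (hv : ∀ a : A, (∀ r, a • v r = v r) → ∀ x : U, a • x = x) :
    ∃ t : Fin 5 → Fin 3 → U, ∀ (a : A) (i j : Fin 5), (∀ r, a • t i r = t j r) →
      i = j ∧ ∀ x : U, a • x = x := by
  classical
  have : Fact p.Prime := ⟨hp⟩
  obtain ⟨instM⟩ : Nonempty (Module (ZMod p) U) := ⟨AddCommGroup.zmodModule hexp⟩
  have : Module.Finite (ZMod p) U := Module.Finite.of_finite
  have hsm : ∀ (a : A) (c : ZMod p) (x : U), a • (c • x) = c • a • x := fun a c x =>
    ZMod.map_smul (DistribSMul.toAddMonoidHom U a) c x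
  by_cases hdim : 3 ≤ Module.finrank (ZMod p) U
  · -- an independent triple spanning at least as much
    obtain ⟨e, he, hspan⟩ : ∃ e : Fin 3 → U, LinearIndependent (ZMod p) e ∧
        ∀ r, v r ∈ Submodule.span (ZMod p) (Set.range e) := by
      let W := Submodule.span (ZMod p) (Set.range v)
      obtain ⟨C, hC⟩ := Submodule.exists_isCompl W
      let bW := Module.finBasis (ZMod p) W
      let bC := Module.finBasis (ZMod p) C
      let b := (bW.prod bC).map (Submodule.prodEquivOfIsCompl W C hC)
      have hW : Module.finrank (ZMod p) W ≤ 3 := by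
        have h := finrank_range_le_card (R := ZMod p) v
        rw [Set.finrank, Fintype.card_fin] at h
        exact h
      have hsum : Module.finrank (ZMod p) W + Module.finrank (ZMod p) C = Module.finrank (ZMod p) U :=
        Submodule.finrank_add_eq_of_isCompl hC
      let f : Fin 3 → Fin (Module.finrank (ZMod p) W) ⊕ Fin (Module.finrank (ZMod p) C) := fun r =>
        if h : r.val < Module.finrank (ZMod p) W then Sum.inl ⟨r.val, h⟩
        else Sum.inr ⟨r.val - Module.finrank (ZMod p) W, by omega⟩
      have hf : Function.Injective f := by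
        intro r s h
        simp only [f] at h
        split_ifs at h with h1 h2 h2 <;> simp [Fin.ext_iff] at h
        · exact Fin.ext h
        · exact Fin.ext (by omega)
      refine ⟨b ∘ f, b.linearIndependent.comp f hf, fun r => ?_⟩
      have hvW : v r ∈ W := Submodule.subset_span ⟨r, rfl⟩
      have hrep := congrArg W.subtype (bW.sum_repr ⟨v r, hvW⟩)
      rw [map_sum] at hrep
      rw [show v r = ∑ l, W.subtype (bW.repr ⟨v r, hvW⟩ l • bW l) from hrep.symm]
      refine sum_mem fun l _ => ?_
      rw [map_smul]
      refine Submodule.smul_mem _ _ (Submodule.subset_span ⟨⟨l.val, by omega⟩, ?_⟩)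
      simp [f, b, l.2]
    let Rel : A → (GL (Fin 3) (ZMod p)) → Prop := fun a M =>
      ∀ r, a • e r = ∑ q, (M : Matrix (Fin 3) (Fin 3) (ZMod p)) q r • e q
    let P : Subgroup (A × (GL (Fin 3) (ZMod p))) :=
      { carrier := {x | Rel x.1 x.2}
        one_mem' := fun r => by
          show (1 : A) • e r = _
          simp [Matrix.one_apply, ite_smul]
        mul_mem' := fun {x y} hx hy r => by
          show (x.1 * y.1) • e r = ∑ q, ((x.2 * y.2 : (GL (Fin 3) (ZMod p))) : Matrix (Fin 3) (Fin 3) (ZMod p)) q r • e q
          rw [mul_smul, hy r, Finset.smul_sum]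
          simp only [Units.val_mul, Matrix.mul_apply, Finset.sum_smul]
          rw [Finset.sum_comm]
          refine Finset.sum_congr rfl fun q _ => ?_
          rw [hsm, hx q, Finset.smul_sum]
          exact Finset.sum_congr rfl fun q' _ => by rw [smul_smul, mul_comm]
        inv_mem' := fun {x} hx r => by
          show x.1⁻¹ • e r = ∑ q, ((x.2⁻¹ : (GL (Fin 3) (ZMod p))) : Matrix (Fin 3) (Fin 3) (ZMod p)) q r • e q
          rw [inv_smul_eq_iff, Finset.smul_sum]
          simp only [hsm]
          rw [Finset.sum_congr rfl fun q _ => by rw [hx q, Finset.smul_sum]]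
          rw [Finset.sum_comm]
          simp only [smul_smul, ← Finset.sum_smul]
          rw [Finset.sum_eq_single r]
          · rw [show (∑ q, ((x.2⁻¹ : (GL (Fin 3) (ZMod p))) : Matrix (Fin 3) (Fin 3) (ZMod p)) q r * (x.2 : Matrix (Fin 3) (Fin 3) (ZMod p)) r q) = 1 by
              rw [Finset.sum_congr rfl fun q _ => mul_comm _ _, ← Matrix.mul_apply, ← Units.val_mul,
                mul_inv_cancel, Units.val_one, Matrix.one_apply_eq], one_smul]
          · intro q _ hq
            rw [show (∑ q', ((x.2⁻¹ : (GL (Fin 3) (ZMod p))) : Matrix (Fin 3) (Fin 3) (ZMod p)) q' r * (x.2 : Matrix (Fin 3) (Fin 3) (ZMod p)) q q') = 0 by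
              rw [Finset.sum_congr rfl fun q' _ => mul_comm _ _, ← Matrix.mul_apply, ← Units.val_mul,
                mul_inv_cancel, Units.val_one, Matrix.one_apply_ne hq], zero_smul]
          · simp }
    let R : Subgroup (GL (Fin 3) (ZMod p)) := P.map (MonoidHom.snd A (GL (Fin 3) (ZMod p)))
    have hP : Group.IsSolvable P := by
      refine Group.isSolvable_of_isSolvable_injective (f := (MonoidHom.fst A (GL (Fin 3) (ZMod p))).comp P.subtype) ?_
      refine (injective_iff_map_eq_one _).mpr ?_
      rintro ⟨⟨a, M⟩, hx⟩ h1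
      change a = 1 at h1
      subst h1
      refine Subtype.ext (Prod.ext rfl (Units.ext ?_))
      show (M : Matrix (Fin 3) (Fin 3) (ZMod p)) = 1
      ext q r
      have h2 := (hx : Rel 1 M) r
      rw [one_smul] at h2
      have h3 : ∑ q, ((M : Matrix (Fin 3) (Fin 3) (ZMod p)) q r -
          (1 : Matrix (Fin 3) (Fin 3) (ZMod p)) q r) • e q = 0 := by
        simp only [sub_smul, Finset.sum_sub_distrib, ← h2, Matrix.one_apply, ite_smul, one_smul,
          zero_smul, Finset.sum_ite_eq', Finset.mem_univ, if_true, sub_self]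
      exact sub_eq_zero.mp (Fintype.linearIndependent_iff.mp he _ h3 q)
    have hR : Group.IsSolvable R := by
      refine Group.isSolvable_of_surjective (G := P) (f := (MonoidHom.snd A (GL (Fin 3) (ZMod p))).subgroupMap P) ?_
      exact (MonoidHom.snd A (GL (Fin 3) (ZMod p))).subgroupMap_surjective P
    have h5 : 5 ≤ Nat.card ((GL (Fin 3) (ZMod p)) ⧸ R) := by
      by_contra h
      push Not at h
      refine not_isSolvable_GL3 (F := ZMod p) ?_
      let emb : ((GL (Fin 3) (ZMod p)) ⧸ R) ↪ Fin 4 :=
        (Finite.equivFin ((GL (Fin 3) (ZMod p)) ⧸ R)).toEmbedding.trans (Fin.castLEEmb (by omega))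
      let φ : (GL (Fin 3) (ZMod p)) →* Equiv.Perm (Fin 4) :=
        (Equiv.Perm.viaEmbeddingHom emb).comp (MulAction.toPermHom (GL (Fin 3) (ZMod p)) ((GL (Fin 3) (ZMod p)) ⧸ R))
      have := isSolvable_perm_fin_four
      refine Group.isSolvable_of_ker_le_range R.subtype φ ?_
      rw [Subgroup.range_subtype]
      intro g hg
      have h1 : MulAction.toPermHom (GL (Fin 3) (ZMod p)) ((GL (Fin 3) (ZMod p)) ⧸ R) g = 1 :=
        Equiv.Perm.viaEmbeddingHom_injective emb (hg.trans (map_one _).symm)
      have h2 := Equiv.congr_fun h1 (QuotientGroup.mk 1)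
      simp only [MulAction.toPermHom_apply, MulAction.toPerm_apply, Equiv.Perm.coe_one, id_eq,
        MulAction.Quotient.smul_mk, smul_eq_mul, mul_one] at h2
      have h3 := QuotientGroup.eq.mp h2
      rw [mul_one] at h3
      exact inv_mem_iff.mp h3
    let q : Fin 5 → (GL (Fin 3) (ZMod p)) ⧸ R := fun i => (Finite.equivFin ((GL (Fin 3) (ZMod p)) ⧸ R)).symm (Fin.castLE h5 i)
    have hq : Function.Injective q := (Equiv.injective _).comp (Fin.castLE_injective h5)
    let M : Fin 5 → (GL (Fin 3) (ZMod p)) := fun i => (Quotient.out (q i))⁻¹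
    refine ⟨fun i r => ∑ s, (M i : Matrix (Fin 3) (Fin 3) (ZMod p)) s r • e s, fun a i j h => ?_⟩
    have h' : Rel a (M j * (M i)⁻¹) := by
      intro r
      have hexp' : e r = ∑ s, ((M i)⁻¹ : (GL (Fin 3) (ZMod p))).val s r • ∑ l, (M i).val l s • e l := by
        simp only [Finset.smul_sum, smul_smul]
        rw [Finset.sum_comm]
        simp only [← Finset.sum_smul]
        rw [Finset.sum_eq_single r]
        · rw [show (∑ s, ((M i)⁻¹ : (GL (Fin 3) (ZMod p))).val s r * (M i).val r s) = 1 by
            rw [Finset.sum_congr rfl fun s _ => mul_comm _ _, ← Matrix.mul_apply, ← Units.val_mul,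
              mul_inv_cancel, Units.val_one, Matrix.one_apply_eq], one_smul]
        · intro l _ hl
          rw [show (∑ s, ((M i)⁻¹ : (GL (Fin 3) (ZMod p))).val s r * (M i).val l s) = 0 by
            rw [Finset.sum_congr rfl fun s _ => mul_comm _ _, ← Matrix.mul_apply, ← Units.val_mul,
              mul_inv_cancel, Units.val_one, Matrix.one_apply_ne hl], zero_smul]
        · simp
      conv_lhs => rw [hexp', Finset.smul_sum]
      rw [Finset.sum_congr rfl fun s _ => by rw [hsm, h s]]
      simp only [Units.val_mul, Matrix.mul_apply, Finset.sum_smul, Finset.smul_sum, smul_smul]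
      rw [Finset.sum_comm]
      exact Finset.sum_congr rfl fun l _ => Finset.sum_congr rfl fun s _ => by rw [mul_comm]
    have hmem : (Quotient.out (q j))⁻¹ * Quotient.out (q i) ∈ R :=
      ⟨(a, M j * (M i)⁻¹), h', by simp [M]⟩
    have hij : i = j := hq (by
      rw [← QuotientGroup.out_eq' (q i), ← QuotientGroup.out_eq' (q j)]
      exact (QuotientGroup.eq.mpr hmem).symm)
    subst hij
    refine ⟨rfl, hv a fun r => ?_⟩
    rw [mul_inv_cancel] at h'
    have hfe : ∀ s, a • e s = e s := fun s => by
      rw [h' s]; simp [Matrix.one_apply, ite_smul]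
    let Fx : Submodule (ZMod p) U :=
      { carrier := {x | a • x = x}
        zero_mem' := smul_zero a
        add_mem' := fun {x y} (hx : a • x = x) (hy : a • y = y) => by
          show a • (x + y) = x + y
          rw [smul_add, hx, hy]
        smul_mem' := fun c x (hx : a • x = x) => by
          show a • (c • x) = c • x
          rw [hsm, hx] }
    exact (Submodule.span_le.mpr (by rintro _ ⟨s, rfl⟩; exact hfe s) : _ ≤ Fx) (hspan r)
  · -- dimension one or two
    push Not at hdim
    have hpos : 0 < Module.finrank (ZMod p) U := Module.finrank_pos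
    let b := Module.finBasis (ZMod p) U
    have hb : ∀ a : A, (∀ l, a • b l = b l) → ∀ x : U, a • x = x := fun a ha x => by
      conv_rhs => rw [← b.sum_repr x]
      conv_lhs => rw [← b.sum_repr x, Finset.smul_sum]
      exact Finset.sum_congr rfl fun l _ => by rw [hsm, ha]
    have hne : ∀ l, b l ≠ 0 := fun l => b.ne_zero l
    have hz : ∀ (a : A) (x : U), a • x = 0 ↔ x = 0 := fun a x => smul_eq_zero_iff_eq a
    let x := b ⟨0, hpos⟩
    have hx : x ≠ 0 := hne _
    by_cases h1 : Module.finrank (ZMod p) U = 1
    · refine ⟨![![x, 0, 0], ![0, x, 0], ![0, 0, x], ![x, x, 0], ![x, 0, x]], fun a i j h => ?_⟩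
      have h0 := h 0; have h1' := h 1; have h2 := h 2
      obtain ⟨hij, hax⟩ : i = j ∧ a • x = x := by
        fin_cases i <;> fin_cases j <;>
          simp [hx, hx.symm, smul_zero, hz] at h0 h1' h2 ⊢ <;> first | assumption | tauto
      exact ⟨hij, hb a fun l => by
        rw [show l = ⟨0, hpos⟩ from Fin.ext (by have := l.2; omega)]; exact hax⟩
    · let y := b ⟨1, by omega⟩
      have hy : y ≠ 0 := hne _
      have hxy : x ≠ y := fun h => by
        have := b.injective h
        simp at this
      have hinj : ∀ a : A, a • x ≠ a • y := fun a h => hxy (MulAction.injective a h)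
      refine ⟨![![x, y, 0], ![x, 0, y], ![0, x, y], ![x, y, x], ![x, y, y]], fun a i j h => ?_⟩
      have h0 := h 0; have h1' := h 1; have h2 := h 2
      obtain ⟨hij, hax, hay⟩ : i = j ∧ a • x = x ∧ a • y = y := by
        fin_cases i <;> fin_cases j <;>
          simp [hx, hy, hx.symm, hy.symm, smul_zero, hz] at h0 h1' h2 ⊢ <;>
          first | exact ⟨h0, h1'⟩ | exact ⟨h0, h2⟩ | exact ⟨h1', h2⟩ | exact hxy (MulAction.injective a (h0.trans h2.symm)) | exact hxy (MulAction.injective a (h1'.trans h2.symm)) | exact hxy ((h0.symm.trans h2)) | exact hxy ((h2.symm.trans h1'))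
      exact ⟨hij, hb a fun l => by
        have := l.2
        rcases (show l.val = 0 ∨ l.val = 1 by omega) with hl | hl
        · rw [show l = ⟨0, hpos⟩ from Fin.ext hl]; exact hax
        · rw [show l = ⟨1, by omega⟩ from Fin.ext hl]; exact hay⟩

end CfsgLib.BaseThree
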