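import Cfsg.Agent.Lib.BaseThree.Colouring
import Cfsg.Agent.Lib.BaseThree.Triples
/-
The imprimitive case: five inequivalent triples on a block are distributed along a colouring of
the blocks with trivial stabiliser.
-/
set_option autoImplicit false

universe u

namespace CfsgLib.BaseThree

open CfsgLib.BaseTwo (IsCR IsIrr subAction)

variable {A V ι : Type u} [Group A] [Finite A] [AddCommGroup V] [Finite V] [DistribMulAction A V]
  [Fintype ι] [MulAction A ι]

theorem triple_of_blocks (hs : Group.IsSolvable A) (hb : Below.{u} (Nat.card V))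
    (hirr : IsIrr A V) [Nontrivial ι] [MulAction.IsPretransitive A ι]
    (π : ι → V →+ V) (hidem : ∀ i j v, i ≠ j → π j (π i v) = 0)
    (hsum : ∀ v, ∑ i, π i v = v) (hne : ∀ i, ∃ v, π i v ≠ 0)
    (hconj : ∀ (a : A) i v, π (a • i) (a • v) = a • π i v) :
    ∃ v : Fin 3 → V, ∀ a : A, (∀ r, a • v r = v r) → ∀ x : V, a • x = x := by
  classical
  have hpp : ∀ i v, π i (π i v) = π i v := by
    intro i v
    have h := hsum (π i v)
    rw [Finset.sum_eq_single i (fun j _ hj => hidem i j v (Ne.symm hj)) (by simp)] at h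
    exact h
  obtain ⟨i0⟩ := (inferInstance : Nonempty ι)
  let U : AddSubgroup V := (π i0).range
  have hUmem : ∀ x, x ∈ U ↔ π i0 x = x := fun x => ⟨by rintro ⟨v, rfl⟩; exact hpp _ _, fun h => ⟨x, h⟩⟩
  let S : Subgroup A := MulAction.stabilizer A i0
  have hU : ∀ a : S, ∀ v ∈ U, a • v ∈ U := by
    intro a v hv
    rw [hUmem] at hv ⊢
    have := hconj (a : A) i0 v
    rw [show (a : A) • i0 = i0 from a.2, hv] at this
    exact this
  obtain ⟨j0, hj0⟩ := exists_ne i0
  have hUlt : Nat.card U < Nat.card V := by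
    refine lt_of_le_of_ne (Nat.card_le_card_of_injective _ Subtype.val_injective) fun h => ?_
    have htop := AddSubgroup.eq_top_of_card_eq U h
    obtain ⟨v, hv⟩ := hne j0
    have hv' : π i0 (π j0 v) = π j0 v := (hUmem _).mp (by rw [htop]; trivial)
    exact hv (by rw [← hv', hidem j0 i0 v hj0])
  -- the stabiliser is irreducible on a block
  have hUirr : ∀ X : AddSubgroup V, X ≤ U → (∀ a : S, ∀ v ∈ X, a • v ∈ X) → X = ⊥ ∨ X = U := by
    intro X hXU hX
    let Y : AddSubgroup V := AddSubgroup.closure (⋃ a : A, (fun x => a • x) '' (X : Set V))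
    have hYinv : ∀ a : A, ∀ v ∈ Y, a • v ∈ Y := by
      intro a v hv
      induction hv using AddSubgroup.closure_induction with
      | mem x hx =>
          obtain ⟨b, y, hy, rfl⟩ := Set.mem_iUnion.mp hx
          exact AddSubgroup.subset_closure (Set.mem_iUnion.mpr ⟨a * b, y, hy, mul_smul a b y⟩)
      | zero => rw [smul_zero]; exact zero_mem _
      | add x y _ _ ih1 ih2 => rw [smul_add]; exact add_mem ih1 ih2
      | neg x _ ih => rw [smul_neg]; exact neg_mem ih
    rcases hirr Y hYinv with hY | hY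
    · left
      rw [eq_bot_iff]
      intro x hx
      rw [← hY]
      exact AddSubgroup.subset_closure (Set.mem_iUnion.mpr ⟨1, x, hx, one_smul A x⟩)
    · right
      refine le_antisymm hXU fun u hu => ?_
      have key : ∀ y ∈ Y, π i0 y ∈ X := by
        intro y hy
        induction hy using AddSubgroup.closure_induction with
        | mem x hx =>
            obtain ⟨b, z, hz, rfl⟩ := Set.mem_iUnion.mp hx
            have hz' : π i0 z = z := (hUmem z).mp (hXU hz)
            by_cases hbi : b • i0 = i0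
            · have := hconj b i0 z
              rw [hbi, hz'] at this
              dsimp only
              rw [this]
              exact hX ⟨b, hbi⟩ z hz
            · have h1 : π (b • i0) (b • z) = b • z := by rw [hconj, hz']
              dsimp only
              rw [← h1, hidem _ _ _ hbi]; exact zero_mem _
        | zero => rw [map_zero]; exact zero_mem _
        | add x y _ _ h1 h2 => rw [map_add]; exact add_mem h1 h2
        | neg x _ h1 => rw [map_neg]; exact neg_mem h1
      rw [← (hUmem u).mp hu]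
      exact key u (by rw [hY]; trivial)
  have hcrU : ∀ X : AddSubgroup V, X ≤ U → (∀ a : S, ∀ v ∈ X, a • v ∈ X) →
      ∃ Y : AddSubgroup V, Y ≤ U ∧ (∀ a : S, ∀ v ∈ Y, a • v ∈ Y) ∧ X ⊓ Y = ⊥ ∧ X ⊔ Y = U := by
    intro X hXU hX
    rcases hUirr X hXU hX with rfl | rfl
    · exact ⟨U, le_rfl, hU, bot_inf_eq _, bot_sup_eq _⟩
    · exact ⟨⊥, bot_le, fun a v hv => by rw [AddSubgroup.mem_bot] at hv ⊢; rw [hv, smul_zero],
        inf_bot_eq _, sup_bot_eq _⟩
  obtain ⟨v1, hv1, h1⟩ := hb.sub (A := S) inferInstance U hU hcrU hUlt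
  have hU0 : Nontrivial U := by
    obtain ⟨z, hz⟩ := hne i0
    exact ⟨⟨⟨π i0 z, z, rfl⟩, 0, fun h => hz (congrArg Subtype.val h)⟩⟩
  have : Nontrivial V := by
    obtain ⟨z, hz⟩ := hne i0
    exact ⟨⟨π i0 z, 0, hz⟩⟩
  obtain ⟨p, -, hp, hexp, -, -⟩ := exists_prime_exponent hirr
  obtain ⟨t, ht⟩ : ∃ t : Fin 5 → Fin 3 → V, (∀ i r, t i r ∈ U) ∧ ∀ (a : S) (i j : Fin 5),
      (∀ r, a • t i r = t j r) → i = j ∧ ∀ x ∈ U, a • x = x := by
    let : DistribMulAction S U := subAction U hU
    obtain ⟨t, ht⟩ := five_triples (A := S) (U := U) inferInstance hp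
      (fun x => Subtype.ext (hexp x)) (fun r => ⟨v1 r, hv1 r⟩)
      (fun a ha x => Subtype.ext (h1 a (fun r => congrArg Subtype.val (ha r)) x x.2))
    exact ⟨fun i r => (t i r : V), fun i r => (t i r).2, fun a i j h =>
      ⟨(ht a i j fun r => Subtype.ext (h r)).1, fun x hx =>
        congrArg Subtype.val ((ht a i j fun r => Subtype.ext (h r)).2 ⟨x, hx⟩)⟩⟩
  have hιlt : Nat.card ι < Nat.card V := by
    choose e he using hne
    let f : Set ι → V := fun T => ∑ i ∈ T.toFinset, π i (e i)
    have hf : Function.Injective f := by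
      intro T1 T2 h
      ext j
      have calcj : ∀ T : Set ι, π j (f T) = if j ∈ T then π j (e j) else 0 := by
        intro T
        simp only [f, map_sum]
        split_ifs with hj
        · rw [Finset.sum_eq_single j (fun i _ hi => hidem i j _ hi) (by simp [hj]), hpp]
        · exact Finset.sum_eq_zero fun i hi => hidem i j _ fun hij => hj (by simpa [hij] using hi)
      have h' := congrArg (π j) h
      rw [calcj, calcj] at h'
      have hne' : π j (e j) ≠ 0 := he j
      by_cases h1 : j ∈ T1 <;> by_cases h2 : j ∈ T2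
      · exact iff_of_true h1 h2
      · rw [if_pos h1, if_neg h2] at h'; exact absurd h' hne'
      · rw [if_neg h1, if_pos h2] at h'; exact absurd h'.symm hne'
      · exact iff_of_false h1 h2
    calc Nat.card ι < 2 ^ Nat.card ι := Nat.lt_two_pow_self
      _ = Nat.card (Set ι) := by simp [Nat.card_eq_fintype_card]
      _ ≤ Nat.card V := Nat.card_le_card_of_injective f hf
  obtain ⟨col, hcol⟩ := colour_aux (Nat.card V) hb _ hιlt A ι hs rfl
  choose g hgi using fun i : ι => MulAction.exists_smul_eq A i0 i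
  have comp : ∀ (c : ι → V), (∀ i, c i ∈ U) → ∀ j, π j (∑ i, g i • c i) = g j • c j := by
    intro c hc j
    have hbl : ∀ i, π i (g i • c i) = g i • c i := by
      intro i
      have := hconj (g i) i0 (c i)
      rwa [hgi, (hUmem _).mp (hc i)] at this
    rw [map_sum, Finset.sum_eq_single j (fun i _ hi => by rw [← hbl i, hidem i j _ hi]) (by simp)]
    exact hbl j
  let cv : Fin 3 → ι → V := fun r i => t (col 0 i) r
  refine ⟨fun r => ∑ i, g i • cv r i, fun a ha => ?_⟩
  let k : ι → S := fun i => ⟨(g (a • i))⁻¹ * a * g i, by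
    show _ • i0 = i0
    rw [mul_smul, mul_smul, hgi, inv_smul_eq_iff, hgi]⟩
  have hk : ∀ i r, k i • t (col 0 i) r = t (col 0 (a • i)) r := by
    intro i r
    have hc : ∀ i, cv r i ∈ U := fun i => ht.1 _ _
    have h := congrArg (π (a • i)) (ha r)
    rw [hconj, comp _ hc, comp _ hc] at h
    show ((g (a • i))⁻¹ * a * g i) • cv r i = cv r (a • i)
    rw [mul_smul, mul_smul, h, inv_smul_smul]
  have hfixι : ∀ i : ι, a • i = i :=
    (hcol a 0 0 fun i => ((ht.2 (k i) _ _ (hk i)).1).symm).2
  intro x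
  conv_lhs => rw [← hsum x, Finset.smul_sum]
  conv_rhs => rw [← hsum x]
  refine Finset.sum_congr rfl fun i _ => ?_
  have hkU : ∀ y ∈ U, k i • y = y := (ht.2 (k i) _ _ (hk i)).2
  have hy : (g i)⁻¹ • π i x ∈ U := by
    rw [hUmem]
    have := hconj (g i)⁻¹ i (π i x)
    rwa [inv_smul_eq_iff.mpr (hgi i).symm, hpp] at this
  have h := hkU _ hy
  rw [Subgroup.smul_def] at h
  change ((g (a • i))⁻¹ * a * g i) • (g i)⁻¹ • π i x = (g i)⁻¹ • π i x at h
  rw [hfixι i, mul_smul, mul_smul, smul_inv_smul] at h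
  exact MulAction.injective _ h

end CfsgLib.BaseThree
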