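import Cfsg.Agent.Lib.BaseThree.Primitive
import Cfsg.Agent.Lib.BaseThree.Imprimitive
/-
Every completely reducible finite module of a solvable group has three vectors with trivial
common stabiliser (Seress).
-/
set_option autoImplicit false
set_option linter.unusedSectionVars false

universe u

namespace CfsgLib.BaseThree

open CfsgLib.BaseTwo (IsCR IsIrr)

variable {V : Type u} [AddCommGroup V] [Finite V] [Nontrivial V]

theorem finite_end : Finite (AddMonoid.End V) :=
  Finite.of_injective (fun f => (f : V → V)) DFunLike.coe_injective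

theorem finite_units : Finite (AddMonoid.End V)ˣ :=
  have := finite_end (V := V)
  Finite.of_injective (fun u => (u : AddMonoid.End V)) Units.val_injective

/-- in a finite monoid some positive power of an element is idempotent -/
theorem exists_idempotent_pow {M : Type*} [Monoid M] [Finite M] (x : M) :
    ∃ n : ℕ, 0 < n ∧ x ^ n * x ^ n = x ^ n := by
  obtain ⟨i, j, hne, he⟩ := Finite.exists_ne_map_eq_of_infinite (fun n : ℕ => x ^ n)
  wlog hlt : i < j generalizing i j
  · exact this j i (Ne.symm hne) he.symm (by omega)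
  obtain ⟨d, rfl⟩ : ∃ d, j = i + d := ⟨j - i, by omega⟩
  have hm : ∀ k m, i ≤ m → x ^ (m + k * d) = x ^ m := by
    intro k m hm
    induction k with
    | zero => simp
    | succ k ih =>
      have e : m + (k + 1) * d = (m - i) + (i + d) + k * d := by
        have : (k + 1) * d = k * d + d := by ring
        omega
      rw [e, pow_add, pow_add, ← show x ^ i = x ^ (i + d) from he, ← pow_add, ← pow_add,
        show m - i + i = m by omega, ih]
  refine ⟨(i + 1) * d, Nat.mul_pos (by omega) (by omega), ?_⟩
  rw [← pow_add]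
  exact hm (i + 1) _ (by calc i ≤ (i + 1) * 1 := by omega
                          _ ≤ (i + 1) * d := Nat.mul_le_mul_left _ (by omega))

/-- the irreducible faithful case -/
theorem triple_of_irr (H : Subgroup (AddMonoid.End V)ˣ)
    (hsolv : Group.IsSolvable H) (hirr : IsIrr H V) (hb : Below.{u} (Nat.card V)) :
    ∃ v : Fin 3 → V, ∀ h : H, (∀ r, h • v r = v r) → ∀ x : V, h • x = x := by
  classical
  have := finite_units (V := V)
  have := finite_end (V := V)
  have : FaithfulSMul H V :=
    ⟨fun {g h} hgh => Subtype.ext (Units.ext (AddMonoidHom.ext hgh))⟩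
  let As : Finset (Subgroup H) :=
    (Set.toFinite {A : Subgroup H | A.Normal ∧ ∀ a ∈ A, ∀ b ∈ A, a * b = b * a}).toFinset
  have hne : As.Nonempty := ⟨⊥, (Set.Finite.mem_toFinset _).mpr ⟨inferInstance, fun a ha b hb' => by
    rw [Subgroup.mem_bot] at ha hb'; rw [ha, hb']⟩⟩
  obtain ⟨A, hA, hmax⟩ := Finset.exists_max_image As (fun A => Nat.card A) hne
  obtain ⟨hAn, hAc⟩ := (Set.Finite.mem_toFinset _).mp hA
  let T : Set (AddMonoid.End V) := (fun a : H => ((a : (AddMonoid.End V)ˣ) : AddMonoid.End V)) '' (A : Set H)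
  let R : Subring (AddMonoid.End V) := Subring.closure T
  have hTR : ∀ a ∈ A, ((a : (AddMonoid.End V)ˣ) : AddMonoid.End V) ∈ R :=
    fun a ha => Subring.subset_closure ⟨a, ha, rfl⟩
  have hRc : ∀ x ∈ R, ∀ y ∈ R, x * y = y * x := by
    have h1 : R ≤ Subring.centralizer T := by
      refine Subring.closure_le.mpr ?_
      rintro _ ⟨a, ha, rfl⟩
      rw [SetLike.mem_coe, Subring.mem_centralizer_iff]
      rintro _ ⟨b, hb', rfl⟩
      dsimp only
      rw [← Units.val_mul, ← Units.val_mul, ← Subgroup.coe_mul, ← Subgroup.coe_mul, hAc b hb' a ha]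
    have h2 : R ≤ Subring.centralizer (R : Set (AddMonoid.End V)) := by
      refine Subring.closure_le.mpr fun t ht => ?_
      rw [SetLike.mem_coe, Subring.mem_centralizer_iff]
      intro x hx
      exact (Subring.mem_centralizer_iff.mp (h1 hx) t ht).symm
    intro x hx y hy
    exact (Subring.mem_centralizer_iff.mp (h2 hy) x hx)
  let cj : H → AddMonoid.End V → AddMonoid.End V := fun h x =>
    ((h : (AddMonoid.End V)ˣ) : AddMonoid.End V) * x * (((h : (AddMonoid.End V)ˣ)⁻¹ : (AddMonoid.End V)ˣ) : AddMonoid.End V)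
  have cj_mul : ∀ h x y, cj h (x * y) = cj h x * cj h y := fun h x y => by
    simp [cj, mul_assoc]
  have cj_comp : ∀ g h x, cj (g * h) x = cj g (cj h x) := fun g h x => by
    simp [cj, mul_assoc]
  have cj_one : ∀ x, cj 1 x = x := fun x => by simp [cj]
  have cj_app : ∀ h x v, (cj h x) (h • v) = h • x v := fun h x v => by
    show ((h : (AddMonoid.End V)ˣ) : AddMonoid.End V) (x
      ((((h : (AddMonoid.End V)ˣ)⁻¹ : (AddMonoid.End V)ˣ) : AddMonoid.End V) (h • v))) = h • x v
    rw [show (((h : (AddMonoid.End V)ˣ)⁻¹ : (AddMonoid.End V)ˣ) : AddMonoid.End V) (h • v) = v from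
      inv_smul_smul h v]
    rfl
  have cjR : ∀ h, ∀ x ∈ R, cj h x ∈ R := by
    intro h x hx
    induction hx using Subring.closure_induction with
    | mem x hx =>
      obtain ⟨a, ha, rfl⟩ := hx
      have := hTR _ (hAn.conj_mem a ha h)
      simpa [cj] using this
    | zero => simp [cj]
    | one => simp [cj]
    | add x y _ _ h1 h2 => simpa [cj, mul_add, add_mul] using add_mem h1 h2
    | neg x _ h1 => simpa [cj] using neg_mem h1
    | mul x y _ _ h1 h2 => rw [cj_mul]; exact mul_mem h1 h2
  -- no nilpotent elements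
  have hred : ∀ x ∈ R, (∃ j : ℕ, x ^ j = 0) → x = 0 := by
    have hker : ∀ s : Finset (AddMonoid.End V), (∀ x ∈ s, x ∈ R ∧ ∃ j : ℕ, x ^ j = 0) →
        ∃ v : V, v ≠ 0 ∧ ∀ x ∈ s, x v = 0 := by
      intro s
      induction s using Finset.induction with
      | empty => intro _; obtain ⟨v, hv⟩ := exists_ne (0 : V); exact ⟨v, hv, fun _ h => by simp at h⟩
      | insert a s has ih =>
        intro hs
        obtain ⟨v, hv, hvs⟩ := ih fun x hx => hs x (Finset.mem_insert_of_mem hx)
        obtain ⟨haR, j, hj⟩ := hs a (Finset.mem_insert_self _ _)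
        have hex : ∃ i, (a ^ i) v = 0 := ⟨j, by rw [hj]; rfl⟩
        have hi0 : Nat.find hex ≠ 0 := fun h => by
          have := Nat.find_spec hex
          rw [h] at this
          exact hv (by simpa using this)
        obtain ⟨i, hi⟩ := Nat.exists_eq_succ_of_ne_zero hi0
        refine ⟨(a ^ i) v, Nat.find_min hex (by omega), fun x hx => ?_⟩
        rcases Finset.mem_insert.mp hx with rfl | hx
        · have := Nat.find_spec hex
          rw [hi, pow_succ'] at this
          exact this
        · show (x * a ^ i) v = 0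
          rw [hRc x (hs x (Finset.mem_insert_of_mem hx)).1 _ (pow_mem haR i)]
          show (a ^ i) (x v) = 0
          rw [hvs x hx, map_zero]
    let U : AddSubgroup V :=
      { carrier := {v | ∀ x ∈ R, (∃ j : ℕ, x ^ j = 0) → x v = 0}
        zero_mem' := fun x _ _ => map_zero x
        add_mem' := fun {a b} ha hb' x hx hn => by rw [map_add, ha x hx hn, hb' x hx hn, add_zero]
        neg_mem' := fun {a} ha x hx hn => by rw [map_neg, ha x hx hn, neg_zero] }
    have hU : ∀ h : H, ∀ v ∈ U, h • v ∈ U := by
      intro h v hv x hx ⟨j, hj⟩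
      have hpow : ∀ i : ℕ, cj h⁻¹ x ^ i = cj h⁻¹ (x ^ i) := by
        intro i
        induction i with
        | zero => simp [cj]
        | succ i ih => rw [pow_succ, ih, pow_succ, cj_mul]
      have h1 := hv (cj h⁻¹ x) (cjR _ _ hx) ⟨j, by rw [hpow, hj]; simp [cj]⟩
      have h2 := cj_app h (cj h⁻¹ x) v
      rwa [← cj_comp, mul_inv_cancel, cj_one, h1, smul_zero] at h2
    rcases hirr U hU with hU' | hU'
    · let nil : Set (AddMonoid.End V) := {x | x ∈ R ∧ ∃ j : ℕ, x ^ j = 0}
      obtain ⟨v, hv, hvs⟩ := hker (Set.toFinite nil).toFinset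
        (fun x hx => ((Set.toFinite nil).mem_toFinset).mp hx)
      have : v ∈ U := fun x hx hn => hvs x (((Set.toFinite nil).mem_toFinset).mpr ⟨hx, hn⟩)
      rw [hU', AddSubgroup.mem_bot] at this
      exact absurd this hv
    · intro x hx hn
      exact AddMonoidHom.ext fun v => (show v ∈ U by rw [hU']; trivial) x hx hn
  by_cases hidem : ∃ f ∈ R, f * f = f ∧ f ≠ 0 ∧ f ≠ 1
  · -- imprimitive
    let IsAtom' : AddMonoid.End V → Prop := fun e => e ∈ R ∧ e * e = e ∧ e ≠ 0 ∧
      ∀ f ∈ R, f * f = f → f * e = f → f = 0 ∨ f = e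
    have hatom : ∀ f ∈ R, f * f = f → f ≠ 0 → ∃ e, IsAtom' e ∧ e * f = e := by
      intro f hf hff hf0
      let s : Finset (AddMonoid.End V) :=
        (Set.toFinite {g : AddMonoid.End V | g ∈ R ∧ g * g = g ∧ g ≠ 0 ∧ g * f = g}).toFinset
      have hs : s.Nonempty := ⟨f, (Set.Finite.mem_toFinset _).mpr ⟨hf, hff, hf0, hff⟩⟩
      obtain ⟨g, hg, hmin⟩ := Finset.exists_min_image s
        (fun g => Nat.card {x : AddMonoid.End V // g * x = x}) hs
      obtain ⟨hgR, hgg, hg0, hgf⟩ := (Set.Finite.mem_toFinset _).mp hg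
      refine ⟨g, ⟨hgR, hgg, hg0, fun k hk hkk hkg => ?_⟩, hgf⟩
      by_cases hk0 : k = 0
      · exact Or.inl hk0
      right
      have hkg' : g * k = k := by rw [hRc g hgR k hk, hkg]
      have hkf : k * f = k := by conv_lhs => rw [← hkg, mul_assoc, hgf, hkg]
      let ι' : {x : AddMonoid.End V // k * x = x} → {x : AddMonoid.End V // g * x = x} :=
        fun x => ⟨x.1, by rw [← x.2, ← mul_assoc, hkg']⟩
      have hinj : Function.Injective ι' :=
        fun a b h => Subtype.ext (congrArg (fun y : {x : AddMonoid.End V // g * x = x} => y.1) h)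
      obtain ⟨⟨y, hy⟩, hy'⟩ := (hinj.bijective_of_nat_card_le
        (hmin k ((Set.Finite.mem_toFinset _).mpr ⟨hk, hkk, hk0, hkf⟩))).2 ⟨g, hgg⟩
      have : y = g := congrArg Subtype.val hy'
      rw [this] at hy
      rw [← hkg]; exact hy
    let ι := {e : AddMonoid.End V // IsAtom' e}
    have : Fintype ι := Fintype.ofFinite _
    have hconjAtom : ∀ (h : H) (e : ι), IsAtom' (cj h e.1) := by
      intro h e
      obtain ⟨heR, hee, he0, hmin⟩ := e.2
      refine ⟨cjR h _ heR, by rw [← cj_mul, hee], fun h0 => he0 ?_, fun f hf hff hfe => ?_⟩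
      · have := congrArg (cj h⁻¹) h0
        rwa [← cj_comp, inv_mul_cancel, cj_one, show cj h⁻¹ 0 = 0 by simp [cj]] at this
      · have h1 : cj h⁻¹ f * e.1 = cj h⁻¹ f := by
          have := congrArg (cj h⁻¹) hfe
          rwa [cj_mul, ← cj_comp, inv_mul_cancel, cj_one] at this
        rcases hmin _ (cjR _ _ hf) (by rw [← cj_mul, hff]) h1 with h2 | h2
        · left
          have := congrArg (cj h) h2
          rwa [← cj_comp, mul_inv_cancel, cj_one, show cj h 0 = 0 by simp [cj]] at this
        · right
          have := congrArg (cj h) h2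
          rwa [← cj_comp, mul_inv_cancel, cj_one] at this
    let : MulAction H ι :=
      { smul := fun h e => ⟨cj h e.1, hconjAtom h e⟩
        one_smul := fun e => Subtype.ext (cj_one e.1)
        mul_smul := fun g h e => Subtype.ext (cj_comp g h e.1) }
    have horth : ∀ e e' : ι, e ≠ e' → e.1 * e'.1 = 0 := by
      intro e e' hne'
      obtain ⟨heR, hee, he0, hmin⟩ := e.2
      obtain ⟨heR', hee', he0', hmin'⟩ := e'.2
      have hc := hRc e.1 heR e'.1 heR'
      have hii : (e.1 * e'.1) * (e.1 * e'.1) = e.1 * e'.1 := by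
        rw [mul_assoc, ← mul_assoc e'.1, ← hc, mul_assoc e.1 e'.1, hee', ← mul_assoc, hee]
      rcases hmin _ (mul_mem heR heR') hii (by rw [mul_assoc, ← hc, ← mul_assoc, hee]) with h | h
      · exact h
      · rcases hmin' _ (mul_mem heR heR') hii (by rw [mul_assoc, hee']) with h' | h'
        · exact h'
        · exact absurd (Subtype.ext (h.symm.trans h')) hne'
    let π : ι → V →+ V := fun e => e.1
    have hmul : ∀ (a : ι), ∀ s : Finset ι, a.1 * (∑ e ∈ s, e.1) = if a ∈ s then a.1 else 0 := by
      intro a s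
      rw [Finset.mul_sum]
      by_cases h : a ∈ s
      · rw [if_pos h, Finset.sum_eq_single a (fun b _ hb' => horth a b (Ne.symm hb')) (by simp [h])]
        exact a.2.2.1
      · rw [if_neg h]
        exact Finset.sum_eq_zero fun b hb' => horth a b fun hab => h (hab ▸ hb')
    have hsR : ∀ s : Finset ι, (∑ e ∈ s, e.1) ∈ R := fun s => sum_mem fun e _ => e.2.1
    have hsI : ∀ s : Finset ι, (∑ e ∈ s, e.1) * (∑ e ∈ s, e.1) = ∑ e ∈ s, e.1 := by
      intro s
      rw [Finset.sum_mul]
      exact Finset.sum_congr rfl fun e he => by rw [hmul e s, if_pos he]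
    have hall : ∑ e : ι, e.1 = 1 := by
      by_contra h
      have hR1 : 1 - ∑ e : ι, e.1 ∈ R := sub_mem (one_mem _) (hsR _)
      have hI1 : (1 - ∑ e : ι, e.1) * (1 - ∑ e : ι, e.1) = 1 - ∑ e : ι, e.1 := by
        rw [mul_sub, mul_one, sub_mul, one_mul, hsI, sub_self, sub_zero]
      obtain ⟨e, he, hef⟩ := hatom _ hR1 hI1 (sub_ne_zero.mpr (Ne.symm h))
      rw [mul_sub, mul_one, hmul ⟨e, he⟩ Finset.univ, if_pos (Finset.mem_univ _), sub_self] at hef
      exact he.2.2.1 hef.symm
    have hex : Nonempty ι := by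
      obtain ⟨f, hf, hff, hf0, -⟩ := hidem
      obtain ⟨e, he, -⟩ := hatom f hf hff hf0
      exact ⟨⟨e, he⟩⟩
    have : Nontrivial ι := by
      rw [← not_subsingleton_iff_nontrivial]
      intro hsub
      obtain ⟨e0⟩ := hex
      obtain ⟨f, hf, hff, hf0, hf1⟩ := hidem
      have he0 : e0.1 = 1 := by
        rw [← hall, Finset.sum_eq_single e0 (fun b _ hb' => absurd (hsub.elim b e0) hb') (by simp)]
      rcases e0.2.2.2.2 f hf hff (by rw [he0, mul_one]) with h | h
      · exact hf0 h
      · exact hf1 (h.trans he0)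
    have : MulAction.IsPretransitive H ι := ⟨fun e e' => by
      let s : Finset ι := Finset.univ.filter fun d => ∃ h : H, h • e = d
      let t : AddMonoid.End V := ∑ d ∈ s, d.1
      have hes : e ∈ s := Finset.mem_filter.mpr ⟨Finset.mem_univ _, 1, one_smul _ _⟩
      have htc : ∀ h : H, cj h t = t := by
        intro h
        have e1 : cj h t = ∑ d ∈ s, cj h d.1 := by
          simp only [cj, t, Finset.mul_sum, Finset.sum_mul]
        rw [e1]
        refine Finset.sum_bij (fun d _ => h • d) ?_ ?_ ?_ ?_
        · intro d hd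
          obtain ⟨k, rfl⟩ := (Finset.mem_filter.mp hd).2
          exact Finset.mem_filter.mpr ⟨Finset.mem_univ _, h * k, mul_smul _ _ _⟩
        · intro a _ b _ hab
          exact MulAction.injective h hab
        · intro d hd
          obtain ⟨k, rfl⟩ := (Finset.mem_filter.mp hd).2
          exact ⟨(h⁻¹ * k) • e, Finset.mem_filter.mpr ⟨Finset.mem_univ _, _, rfl⟩,
            by rw [← mul_smul, mul_inv_cancel_left]⟩
        · intro d _; rfl
      have htU : ∀ h : H, ∀ v ∈ AddMonoidHom.range (t : V →+ V), h • v ∈ AddMonoidHom.range (t : V →+ V) := by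
        rintro h _ ⟨v, rfl⟩
        refine ⟨h • v, ?_⟩
        show t (h • v) = h • t v
        conv_lhs => rw [← htc h]
        rw [cj_app]
      rcases hirr _ htU with hr | hr
      · exfalso
        have ht0 : t = 0 := AddMonoidHom.ext fun v => by
          have : t v ∈ AddMonoidHom.range (t : V →+ V) := ⟨v, rfl⟩
          rwa [hr, AddSubgroup.mem_bot] at this
        have := hmul e s
        rw [if_pos hes, show (∑ d ∈ s, d.1) = t from rfl, ht0, mul_zero] at this
        exact e.2.2.2.1 this.symm
      · have ht1 : t = 1 := AddMonoidHom.ext fun v => by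
          obtain ⟨w, rfl⟩ := (show v ∈ AddMonoidHom.range (t : V →+ V) by rw [hr]; trivial)
          show (t * t) w = t w
          rw [hsI s]
        have := hmul e' s
        rw [show (∑ d ∈ s, d.1) = t from rfl, ht1, mul_one] at this
        by_cases h : e' ∈ s
        · exact (Finset.mem_filter.mp h).2
        · rw [if_neg h] at this; exact absurd this e'.2.2.2.1⟩
    refine triple_of_blocks hsolv hb hirr π ?_ ?_ ?_ ?_
    · intro i j v hij
      show (j.1 * i.1) v = 0
      rw [horth j i (Ne.symm hij)]; rfl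
    · intro v
      show ∑ i : ι, i.1 v = v
      have h1 := congrArg (AddMonoidHom.mk' (fun f : AddMonoid.End V => f v) fun _ _ => rfl) hall
      rw [map_sum] at h1
      exact h1
    · intro i
      by_contra h
      push Not at h
      exact i.2.2.2.1 (AddMonoidHom.ext h)
    · intro a i v
      exact cj_app a i.1 v
  · -- the subring is a field
    push Not at hidem
    have hunit : ∀ x : R, x ≠ 0 → ∃ y, x * y = 1 := by
      intro x hx
      obtain ⟨n, hn, hnn⟩ := exists_idempotent_pow (x : AddMonoid.End V)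
      have hne0 : (x : AddMonoid.End V) ^ n ≠ 0 := fun h => hx (Subtype.ext (hred _ x.2 ⟨n, h⟩))
      have h1 : (x : AddMonoid.End V) ^ n = 1 := hidem _ (pow_mem x.2 n) hnn hne0
      refine ⟨⟨(x : AddMonoid.End V) ^ (n - 1), pow_mem x.2 _⟩, Subtype.ext ?_⟩
      show (x : AddMonoid.End V) * (x : AddMonoid.End V) ^ (n - 1) = 1
      rw [← pow_succ', show n - 1 + 1 = n by omega, h1]
    have hnt : ∃ x y : R, x ≠ y := by
      obtain ⟨v, hv⟩ := exists_ne (0 : V)
      exact ⟨0, 1, fun h => hv (congrArg (fun z : R => (z : AddMonoid.End V) v) h).symm⟩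
    have hF : IsField R := ⟨hnt, fun x y => Subtype.ext (hRc _ x.2 _ y.2), fun {x} hx => hunit x hx⟩
    let : Field R := hF.toField
    have : Finite R := Subtype.finite
    let S : Setup R V H :=
      { σ := fun h x => ⟨cj h x.1, cjR h _ x.2⟩
        smul_comm' := fun h c v => (cj_app h c.1 v).symm
        A := A
        normal := hAn
        comm := hAc
        max := fun N hN hAN hNc => (Subgroup.eq_of_le_of_card_ge hAN
          (hmax N ((Set.Finite.mem_toFinset _).mpr ⟨hN, hNc⟩))).symm
        scal := fun a ha => ⟨⟨_, hTR a ha⟩, fun v => rfl⟩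
        gen := by
          intro h hh c
          refine Subtype.ext ?_
          show cj h c.1 = c.1
          obtain ⟨c, hc⟩ := c
          induction hc using Subring.closure_induction with
          | mem x hx =>
            obtain ⟨a, ha, rfl⟩ := hx
            have hcm := Subgroup.mem_centralizer_iff.mp hh a ha
            simp only [cj]
            rw [← Units.val_mul, ← Units.val_mul, ← Subgroup.coe_inv, ← Subgroup.coe_mul,
              ← Subgroup.coe_mul, ← hcm, mul_inv_cancel_right]
          | zero => simp [cj]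
          | one => simp [cj]
          | add x y _ _ h1 h2 => simp only [cj, mul_add, add_mul] at h1 h2 ⊢; rw [h1, h2]
          | neg x _ h1 => simp only [cj, mul_neg, neg_mul] at h1 ⊢; rw [h1]
          | mul x y _ _ h1 h2 => rw [cj_mul, h1, h2]
        solv := hsolv }
    obtain ⟨v₁, v₂, v₃, h⟩ := S.exists_triple
    refine ⟨![v₁, v₂, v₃], fun g hg x => ?_⟩
    rw [h g (hg 0) (hg 1) (hg 2), one_smul]

/-- the main induction -/
theorem below (n : ℕ) : Below.{u} n := by
  induction n with
  | zero => intro A V _ _ _ _ _ _ _ h; omega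
  | succ n ih =>
    intro A V _ _ _ _ _ hs hcr hlt
    by_cases hlt' : Nat.card V < n
    · exact ih A V hs hcr hlt'
    have hb : Below.{u} (Nat.card V) := ih.mono (by omega)
    rcases subsingleton_or_nontrivial V with hsub | hnt
    · exact ⟨0, fun a _ x => Subsingleton.elim _ _⟩
    by_cases hirr : IsIrr A V
    swap
    · exact triple_of_not_irr hb le_rfl hs hcr hirr
    let φ : A →* (AddMonoid.End V)ˣ := (DistribMulAction.toAddMonoidEnd A V).toHomUnits
    have hs' : Group.IsSolvable φ.range := Group.isSolvable_of_surjective φ.rangeRestrict_surjective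
    obtain ⟨v, hv⟩ := triple_of_irr φ.range hs'
      (fun U hU => hirr U fun a x hx => hU ⟨φ a, a, rfl⟩ x hx) hb
    exact ⟨v, fun a ha x => hv ⟨φ a, a, rfl⟩ ha x⟩

end CfsgLib.BaseThree
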