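import Mathlib
/-
A set of 0/1 vectors (and doubles of unit vectors) which, with the unit vectors, is preserved by
no nontrivial additive automorphism of a product of cyclic groups.
-/
set_option autoImplicit false

namespace CfsgLib.BaseThree

variable {d : ℕ} (n : Fin d → ℕ)

/-- the indicator of a set of indices -/
def ind (T : Finset (Fin d)) : (i : Fin d) → ZMod (n i) := ∑ i ∈ T, Pi.single i 1

/-- the rigidifying set -/
def Rigid (w : (i : Fin d) → ZMod (n i)) : Prop :=
  (∃ i : Fin d, i.val = 0 ∧ w = Pi.single i 1) ∨
  (∃ i j : Fin d, ¬ (i.val = 0 ∧ j.val = 2) ∧ ¬ (i.val = 2 ∧ j.val = 0) ∧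
    w = Pi.single i 1 + Pi.single j 1) ∨
  ∃ k : ℕ, 3 ≤ k ∧ k ≤ d ∧ w = ind n (Finset.univ.filter fun i : Fin d => i.val < k)

theorem ind_apply (T : Finset (Fin d)) (i : Fin d) :
    ind n T i = if i ∈ T then 1 else 0 := by
  rw [ind, Finset.sum_apply, Finset.sum_pi_single]

/-- every pair is covered directly or through a third index -/
theorem rigid_pair (i j : Fin d) :
    Rigid n (Pi.single i 1 + Pi.single j 1) ∨
      ∃ k : Fin d, i ≠ j ∧ Rigid n (Pi.single i 1 + Pi.single k 1) ∧
        Rigid n (Pi.single k 1 + Pi.single j 1) ∧ i ≠ k ∧ k ≠ j ∧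
        Rigid n (Pi.single i 1 + Pi.single k 1 + Pi.single j 1) := by
  by_cases h : (i.val = 0 ∧ j.val = 2) ∨ (i.val = 2 ∧ j.val = 0)
  · right
    have hd : 3 ≤ d := by
      rcases h with ⟨-, h⟩ | ⟨h, -⟩
      · have := j.2; omega
      · have := i.2; omega
    obtain ⟨hik, hkj⟩ : i.val ≠ 1 ∧ j.val ≠ 1 := by omega
    have hnik : i ≠ ⟨1, by omega⟩ := fun e => hik (by rw [e])
    have hnkj : (⟨1, by omega⟩ : Fin d) ≠ j := fun e => hkj (by rw [← e])
    have hij : i ≠ j := fun e => by
      have := congrArg Fin.val e
      omega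
    refine ⟨⟨1, by omega⟩, hij, ?_, ?_, hnik, hnkj, ?_⟩
    · exact Or.inr (Or.inl ⟨_, _, by simp, by simp, rfl⟩)
    · exact Or.inr (Or.inl ⟨_, _, by simp, by simp, rfl⟩)
    · refine Or.inr (Or.inr ⟨3, le_rfl, hd, ?_⟩)
      have hset : Finset.univ.filter (fun l : Fin d => l.val < 3) = {i, ⟨1, by omega⟩, j} := by
        ext l
        simp only [Finset.mem_filter, Finset.mem_univ, true_and, Finset.mem_insert,
          Finset.mem_singleton, Fin.ext_iff]
        omega
      rw [hset, ind, Finset.sum_insert (by simp [hnik, hij]), Finset.sum_insert (by simp [hnkj]),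
        Finset.sum_singleton, add_assoc]
  · left
    push Not at h
    exact Or.inr (Or.inl ⟨i, j, fun e => h.1 e.1 e.2, fun e => h.2 e.1 e.2, rfl⟩)

variable {n}

/-- only the identity preserves both sets -/
theorem rigid_fix (hn : ∀ i, 1 < n i)
    (M : ((i : Fin d) → ZMod (n i)) →+ ((i : Fin d) → ZMod (n i))) (hM : Function.Injective M)
    (h1 : ∀ i, ∃ j, M (Pi.single i 1) = Pi.single j 1)
    (h2 : ∀ w, Rigid n w → w ≠ 0 → Rigid n (M w)) :
    ∀ i, M (Pi.single i 1) = Pi.single i 1 := by
  classical
  have : ∀ i, Fact (1 < n i) := fun i => ⟨hn i⟩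
  choose π hπ using h1
  have hsne : ∀ i j : Fin d,
      (Pi.single i 1 : (k : Fin d) → ZMod (n k)) = Pi.single j 1 → i = j := by
    intro i j h
    by_contra hne
    have := congrFun h i
    rw [Pi.single_eq_same, Pi.single_eq_of_ne hne] at this
    exact one_ne_zero this
  have hπinj : Function.Injective π := fun i j h => hsne _ _ (hM (by rw [hπ, hπ, h]))
  have hπb : Function.Surjective π := Finite.surjective_of_injective hπinj
  have hMind : ∀ T : Finset (Fin d), M (ind n T) = ind n (T.image π) := fun T => by
    rw [ind, ind, map_sum, Finset.sum_image fun a _ b _ h => hπinj h]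
    exact Finset.sum_congr rfl fun i _ => hπ i
  -- classification by the support
  have supp : ∀ w, Rigid n w → ∀ T : Finset (Fin d), w = ind n T →
      (T.card = 1 → ∀ i ∈ T, i.val = 0) ∧
      (T.card = 2 → ∀ i ∈ T, ∀ j ∈ T, ¬ (i.val = 0 ∧ j.val = 2)) ∧
      (3 ≤ T.card → ∃ k, k ≤ d ∧ T = Finset.univ.filter fun i : Fin d => i.val < k) := by
    intro w hw T hT
    have hmem : ∀ l : Fin d, l ∈ T ↔ w l = 1 := fun l => by
      rw [hT, ind_apply]
      by_cases hl : l ∈ T
      · simp [hl]
      · simp [hl]
    have hmem0 : ∀ l : Fin d, l ∈ T ↔ w l ≠ 0 := fun l => by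
      rw [hT, ind_apply]
      by_cases hl : l ∈ T
      · simp [hl]
      · simp [hl]
    rcases hw with ⟨i0, hi0, rfl⟩ | ⟨a, b, hab1, hab2, rfl⟩ | ⟨k, hk, hkd, rfl⟩
    · have hTe : T = {i0} := by
        ext l
        rw [hmem0, Finset.mem_singleton]
        by_cases hl : l = i0
        · subst hl; simp
        · simp [hl]
      subst hTe
      refine ⟨fun _ i hi => ?_, fun h => by simp at h, fun h => by simp at h⟩
      rw [Finset.mem_singleton] at hi
      rw [hi, hi0]
    · by_cases hab : a = b
      · subst hab
        have hsub : T ⊆ {a} := fun l hl => by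
          rw [hmem0] at hl
          rw [Finset.mem_singleton]
          by_contra hne
          simp [hne] at hl
        refine ⟨fun hc i hi => ?_, fun hc => ?_, fun hc => ?_⟩
        · exfalso
          have hia : i = a := Finset.mem_singleton.mp (hsub hi)
          have := (hmem i).mp hi
          subst hia
          simp at this
        · have := Finset.card_le_card hsub
          simp at this; omega
        · have := Finset.card_le_card hsub
          simp at this; omega
      · have hTe : T = {a, b} := by
          ext l
          rw [hmem0, Finset.mem_insert, Finset.mem_singleton]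
          by_cases hla : l = a
          · subst hla; simp [hab]
          · by_cases hlb : l = b
            · subst hlb; simp [hla]
            · simp [hla, hlb]
        subst hTe
        rw [Finset.card_pair hab]
        refine ⟨fun h => by omega, fun _ i hi j hj hij => ?_, fun h => by omega⟩
        simp only [Finset.mem_insert, Finset.mem_singleton] at hi hj
        rcases hi with rfl | rfl <;> rcases hj with rfl | rfl
        · omega
        · exact hab1 hij
        · exact hab2 ⟨hij.2, hij.1⟩
        · omega
    · have hTe : T = Finset.univ.filter (fun i : Fin d => i.val < k) := by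
        ext l
        rw [hmem0, ind_apply]
        by_cases hl : l ∈ Finset.univ.filter (fun i : Fin d => i.val < k)
        · simp [hl]
        · rw [if_neg hl]; exact iff_of_false (by simp) hl
      have hc : T.card = k := by
        rw [hTe, Fin.card_filter_val_lt]; omega
      exact ⟨fun h => by omega, fun h => by omega, fun _ => ⟨k, hkd, hTe⟩⟩
  have hne0 : ∀ T : Finset (Fin d), T.Nonempty → ind n T ≠ 0 := fun T ⟨l, hl⟩ h => by
    have := congrFun h l
    rw [ind_apply, if_pos hl] at this
    exact one_ne_zero this
  have himg : ∀ T : Finset (Fin d), T.Nonempty → Rigid n (ind n T) →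
      Rigid n (ind n (T.image π)) := fun T hT hR => hMind T ▸ h2 _ hR (hne0 T hT)
  -- zero is fixed
  have hzero : ∀ i : Fin d, i.val = 0 → π i = i := fun i hi => by
    have := himg {i} ⟨i, Finset.mem_singleton_self i⟩
      (Or.inl ⟨i, hi, by rw [ind, Finset.sum_singleton]⟩)
    rw [Finset.image_singleton] at this
    have h0 := (supp _ this _ rfl).1 (Finset.card_singleton _) (π i) (Finset.mem_singleton_self _)
    exact Fin.ext (by omega)
  -- two is fixed
  have htwo : ∀ j : Fin d, j.val = 2 → π j = j := fun j hj => by
    obtain ⟨i, hi⟩ : ∃ i : Fin d, i.val = 0 := ⟨⟨0, by have := j.2; omega⟩, rfl⟩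
    obtain ⟨j', hj'⟩ := hπb j
    by_contra hne
    have hj'ne : j' ≠ j := fun e => hne (e ▸ hj')
    have hij : i ≠ j' := fun e => by
      rw [← e, hzero i hi] at hj'
      have := congrArg Fin.val hj'
      omega
    have hR : Rigid n (ind n {i, j'}) := Or.inr (Or.inl ⟨i, j', fun e => hj'ne (Fin.ext (by omega)),
      fun e => by omega, by rw [ind, Finset.sum_pair hij]⟩)
    have := himg {i, j'} ⟨i, by simp⟩ hR
    rw [Finset.image_insert, Finset.image_singleton, hzero i hi, hj'] at this
    exact (supp _ this _ rfl).2.1 (Finset.card_pair fun e => by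
      have := congrArg Fin.val e; omega) i (by simp) j (by simp) ⟨hi, hj⟩
  -- initial segments are fixed
  have hseg : ∀ k, 3 ≤ k → ∀ i : Fin d, i.val < k → (π i).val < k := by
    intro k hk i hi
    by_cases hkd : d ≤ k
    · have := (π i).2; omega
    push Not at hkd
    have hR : Rigid n (ind n (Finset.univ.filter fun l : Fin d => l.val < k)) :=
      Or.inr (Or.inr ⟨k, hk, hkd.le, rfl⟩)
    have hc : ((Finset.univ.filter fun l : Fin d => l.val < k).image π).card = k := by
      rw [Finset.card_image_of_injective _ hπinj, Fin.card_filter_val_lt]; omega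
    obtain ⟨k', hk'd, hk'⟩ := (supp _ (himg _ ⟨i, by simp [hi]⟩ hR) _ rfl).2.2 (by omega)
    have : k' = k := by
      have h := congrArg Finset.card hk'
      rw [hc, Fin.card_filter_val_lt] at h
      omega
    subst this
    have : π i ∈ Finset.univ.filter fun l : Fin d => l.val < k' := hk' ▸
      Finset.mem_image_of_mem π (by simp [hi])
    simpa using this
  intro i
  suffices h : π i = i by rw [hπ, h]
  induction hv : i.val using Nat.strong_induction_on generalizing i with
  | _ v ih =>
    subst hv
    by_cases h0 : i.val = 0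
    · exact hzero i h0
    by_cases h2' : i.val = 2
    · exact htwo i h2'
    have hd2 : i.val = 1 → 2 < d → (π i).val ≠ 2 := fun _ h e => by
      have := hπinj (a₁ := i) (a₂ := ⟨2, h⟩) (by rw [htwo ⟨2, h⟩ rfl]; exact Fin.ext e)
      exact h2' (congrArg Fin.val this)
    have hlt : ∀ j : Fin d, j.val < i.val → (π i).val ≠ j.val := fun j hj e => by
      have := hπinj (a₁ := i) (a₂ := j) (by rw [ih _ hj j rfl]; exact Fin.ext e)
      omega
    have hle : (π i).val ≤ i.val := by
      by_cases h1 : i.val = 1
      · have h3 := hseg 3 le_rfl i (by omega)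
        by_cases hd : 2 < d
        · have := hd2 h1 hd; omega
        · have := (π i).2; omega
      · have := hseg (i.val + 1) (by omega) i (by omega)
        omega
    refine Fin.ext (le_antisymm hle ?_)
    by_contra hcon
    exact hlt (π i) (by omega) rfl

end CfsgLib.BaseThree
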