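import Cfsg.Agent.Lib.BaseThree.Eigen
import Cfsg.Agent.Lib.BaseThree.Rigid
/-
Three vectors with trivial common stabiliser for a semilinear group with a layer: an eigenline
`K u`, the sum of the translates at a basis of the eigenspaces, and a rigidifying sum.
-/
set_option autoImplicit false
set_option linter.unusedSectionVars false

universe u

open scoped commutatorElement

namespace CfsgLib.BaseThree

variable {K V H : Type u} [Field K] [Finite K] [AddCommGroup V] [Finite V] [Nontrivial V]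
  [Module K V] [Group H] [Finite H] [DistribMulAction H V] [FaithfulSMul H V]

namespace Setup

variable (S : Setup K V H)

/-- coordinates for the layer modulo the centraliser of `X` -/
theorem exists_coords (hC : S.C ≠ S.A) {u : V} (hu : u ≠ 0) :
    ∃ (d : ℕ) (n : Fin d → ℕ) (f : H → ((i : Fin d) → ZMod (n i))),
      (∀ i, 1 < n i) ∧ (∀ a ∈ S.B, ∀ b ∈ S.B, f (a * b) = f a + f b) ∧
      (∀ w, ∃ b ∈ S.B, f b = w) ∧ ∀ b ∈ S.B, (f b = 0 ↔ b ∈ S.Y u) := by
  classical
  let N : Subgroup S.B := (S.Y u).subgroupOf S.B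
  have hAY : S.A ≤ S.Y u := (S.A_le_X hC u).trans (S.X_le_Y hu)
  have hN : N.Normal := ⟨fun x hx g => by
    rw [Subgroup.mem_subgroupOf] at hx ⊢
    have h1 : ⁅(g : H), (x : H)⁆ ∈ S.Y u := hAY (S.B_comm _ g.2 _ x.2)
    have h2 : ((g * x * g⁻¹ : S.B) : H) = ⁅(g : H), (x : H)⁆ * x := by
      simp [commutatorElement_def, mul_assoc]
    rw [h2]; exact mul_mem h1 hx⟩
  let : CommGroup (S.B ⧸ N) :=
    { (inferInstance : Group (S.B ⧸ N)) with
      mul_comm := fun a b => by
        induction a using QuotientGroup.induction_on with | _ a => ?_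
        induction b using QuotientGroup.induction_on with | _ b => ?_
        rw [← QuotientGroup.mk_mul, ← QuotientGroup.mk_mul, QuotientGroup.eq, Subgroup.mem_subgroupOf]
        have h1 : ⁅(b : H)⁻¹, (a : H)⁻¹⁆ ∈ S.Y u :=
          hAY (S.B_comm _ (inv_mem b.2) _ (inv_mem a.2))
        simpa [commutatorElement_def, mul_assoc] using h1 }
  obtain ⟨ι, hι, n, hn, ⟨e⟩⟩ := CommGroup.equiv_prod_multiplicative_zmod_of_finite (S.B ⧸ N)
  let eq := Fintype.equivFin ι
  let F : S.B → (i : Fin (Fintype.card ι)) → ZMod (n (eq.symm i)) :=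
    fun b i => Multiplicative.toAdd (e (QuotientGroup.mk b) (eq.symm i))
  refine ⟨Fintype.card ι, fun i => n (eq.symm i), fun h => if hh : h ∈ S.B then F ⟨h, hh⟩ else 0,
    fun i => hn _, fun a ha b hb => ?_, fun w => ?_, fun b hb => ?_⟩
  · dsimp only
    rw [dif_pos ha, dif_pos hb, dif_pos (mul_mem ha hb)]
    funext i
    show Multiplicative.toAdd (e (QuotientGroup.mk ((⟨a, ha⟩ : S.B) * ⟨b, hb⟩)) _) = _
    rw [QuotientGroup.mk_mul, map_mul]
    rfl
  · let w' : (i : ι) → Multiplicative (ZMod (n i)) := fun i =>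
      Multiplicative.ofAdd (eq.symm_apply_apply i ▸ w (eq i))
    obtain ⟨b, hb⟩ := QuotientGroup.mk_surjective (e.symm w')
    refine ⟨b, b.2, ?_⟩
    dsimp only
    rw [dif_pos b.2]
    funext i
    show Multiplicative.toAdd (e (QuotientGroup.mk b) (eq.symm i)) = w i
    rw [hb, MulEquiv.apply_symm_apply]
    show (eq.symm_apply_apply (eq.symm i) ▸ w (eq (eq.symm i)) : ZMod (n (eq.symm i))) = w i
    have : ∀ (j : Fin (Fintype.card ι)) (h : j = i) (h' : eq.symm j = eq.symm i),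
        (h' ▸ w j : ZMod (n (eq.symm i))) = w i := by
      intro j h h'; subst h; rfl
    exact this _ (eq.apply_symm_apply i) _
  · dsimp only
    rw [dif_pos hb]
    constructor
    · intro h
      have h1 : (QuotientGroup.mk (⟨b, hb⟩ : S.B) : S.B ⧸ N) = 1 := by
        refine e.injective ?_
        rw [map_one]
        funext i
        have h2 := congrFun h (eq i)
        show _ = (1 : Multiplicative (ZMod (n i)))
        have : ∀ j, j = i → Multiplicative.toAdd (e (QuotientGroup.mk (⟨b, hb⟩ : S.B)) j) = 0 →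
            e (QuotientGroup.mk (⟨b, hb⟩ : S.B)) i = 1 := by
          intro j hj h3; subst hj; exact h3
        exact this _ (eq.symm_apply_apply i) h2
      exact Subgroup.mem_subgroupOf.mp ((QuotientGroup.eq_one_iff (N := N) _).mp h1)
    · intro h
      funext i
      show Multiplicative.toAdd (e (QuotientGroup.mk (⟨b, hb⟩ : S.B)) _) = 0
      rw [(QuotientGroup.eq_one_iff (⟨b, hb⟩ : S.B)).mpr h, map_one]
      rfl

theorem σ_fix_conj {g : H} {u : V} (hg : g • u = u) {x : H} {c : K} (hc : x • u = c • u) :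
    (g * x * g⁻¹) • u = S.σ g c • u := by
  have h1 : g⁻¹ • u = u := inv_smul_eq_iff.mpr hg.symm
  rw [mul_smul, mul_smul, h1, hc, S.smul_comm', hg]

theorem conj_mem_X {g : H} {u : V} (hg : g • u = u) {x : H} (hx : x ∈ S.X u) :
    g * x * g⁻¹ ∈ S.X u := by
  obtain ⟨c, hc⟩ := hx.2
  exact ⟨S.B_normal.conj_mem x hx.1 g, _, S.σ_fix_conj hg hc⟩

theorem conj_mem_Y {g : H} {u : V} (hg : g • u = u) {y : H} (hy : y ∈ S.Y u) :
    g * y * g⁻¹ ∈ S.Y u := by
  refine ⟨S.B_normal.conj_mem y hy.1 g, Subgroup.mem_centralizer_iff.mpr fun x hx => ?_⟩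
  have hg' : g⁻¹ • u = u := inv_smul_eq_iff.mpr hg.symm
  have h := Subgroup.mem_centralizer_iff.mp hy.2 _ (S.conj_mem_X hg' hx)
  calc x * (g * y * g⁻¹) = g * ((g⁻¹ * x * g⁻¹⁻¹) * y) * g⁻¹ := by group
    _ = g * (y * (g⁻¹ * x * g⁻¹⁻¹)) * g⁻¹ := by rw [h]
    _ = g * y * g⁻¹ * x := by group

theorem σ_χ' (g : H) {a : H} (ha : a ∈ S.A) : S.σ g (S.χ' a) = S.χ' (g * a * g⁻¹) :=
  scal_eq (V := V) fun v => by
    rw [← S.χ'_spec (S.normal.conj_mem a ha g), mul_smul, mul_smul, S.χ'_spec ha, S.smul_comm',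
      smul_inv_smul]

/-- the correction `b⁻¹ (g b g⁻¹)` of a translate fixed by `g` -/
theorem shift {g : H} {u : V} (hg : g • u = u) {b : H} (hb : b ∈ S.B)
    (hfix : g • b • u = b • u) :
    b⁻¹ * (g * b * g⁻¹) ∈ S.X u ∧ (b⁻¹ * (g * b * g⁻¹)) • u = u := by
  have h1 : g⁻¹ • u = u := inv_smul_eq_iff.mpr hg.symm
  have h2 : (b⁻¹ * (g * b * g⁻¹)) • u = u := by
    rw [mul_smul, mul_smul, mul_smul, h1, hfix, inv_smul_smul]
  exact ⟨⟨mul_mem (inv_mem hb) (S.B_normal.conj_mem b hb g), 1, by rw [one_smul]; exact h2⟩, h2⟩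

theorem smul_translate {g : H} {u : V} (hg : g • u = u) (b : H) :
    g • b • u = (b * (b⁻¹ * (g * b * g⁻¹))) • u := by
  have h1 : g⁻¹ • u = u := inv_smul_eq_iff.mpr hg.symm
  rw [show b * (b⁻¹ * (g * b * g⁻¹)) = g * b * g⁻¹ by group, mul_smul, mul_smul, h1]

/-- fixed translates: multiplying by an element of `Y` -/
theorem fix_mul_Y {g : H} {u : V} (hg : g • u = u) {b y : H} (hb : b ∈ S.B) (hy : y ∈ S.Y u)
    (h1 : g • b • u = b • u) (h2 : g • y • u = y • u) : g • (b * y) • u = (b * y) • u := by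
  obtain ⟨hz, hzu⟩ := S.shift hg hb h1
  obtain ⟨hz', hzu'⟩ := S.shift hg hy.1 h2
  set z := b⁻¹ * (g * b * g⁻¹) with hzdef
  set z' := y⁻¹ * (g * y * g⁻¹) with hzdef'
  have hcm : z * y = y * z := Subgroup.mem_centralizer_iff.mp hy.2 z hz
  have e : (b * y) * ((b * y)⁻¹ * (g * (b * y) * g⁻¹)) = b * (z * y) * z' := by
    rw [hzdef, hzdef']; group
  rw [smul_translate hg, e, hcm, ← mul_assoc b y z, mul_smul, hzu', mul_smul, hzu]

/-- if two translates and their product are fixed then the correction commutes -/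
theorem shift_comm {g : H} {u : V} (hu : u ≠ 0) (hg : g • u = u) {b b' : H} (hb : b ∈ S.B)
    (hb' : b' ∈ S.B) (h1 : g • b • u = b • u) (h2 : g • b' • u = b' • u)
    (h3 : g • (b * b') • u = (b * b') • u) :
    Commute (b⁻¹ * (g * b * g⁻¹)) b' := by
  obtain ⟨hz, hzu⟩ := S.shift hg hb h1
  obtain ⟨hz', hzu'⟩ := S.shift hg hb' h2
  set z := b⁻¹ * (g * b * g⁻¹) with hzdef
  set z' := b'⁻¹ * (g * b' * g⁻¹) with hzdef'
  have e : (b * b') * ((b * b')⁻¹ * (g * (b * b') * g⁻¹)) = b * (z * b') * z' := by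
    rw [hzdef, hzdef']; group
  rw [smul_translate hg, e, mul_smul, hzu', mul_smul, mul_smul b b'] at h3
  have h4 : (z * b') • u = b' • u := MulAction.injective b h3
  have h5 : ⁅z, b'⁆ • (b' • u) = b' • u := by
    conv_lhs => rw [show b' • u = (b' * z) • u by rw [mul_smul, hzu]]
    rw [← mul_smul, show ⁅z, b'⁆ * (b' * z) = z * b' by simp only [commutatorElement_def]; group]
    exact h4
  exact commutatorElement_eq_one_iff_mul_comm.mp
    (S.A_fix_trivial (S.B_comm _ hz.1 _ hb') ((smul_ne_zero_iff_ne _).mpr hu) h5)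

/-- vectors in the eigenspace belonging to the coset of `b` -/
def InEig (u : V) (b : H) (v : V) : Prop :=
  ∀ x ∈ S.X u, ∀ c : K, x • u = c • u → x • v = (S.χ' ⁅x, b⁆ * c) • v

theorem inEig_translate {u : V} {b b' : H} (hb : b ∈ S.B) (hb' : b' ∈ S.B)
    (hY : b⁻¹ * b' ∈ S.Y u) : S.InEig u b (b' • u) := by
  intro x hx c hc
  have h1 : ⁅x, b'⁆ = ⁅x, b⁆ := by
    have h0 : ⁅x, b⁻¹ * b'⁆ = 1 := commutatorElement_eq_one_iff_mul_comm.mpr
      (Subgroup.mem_centralizer_iff.mp hY.2 x hx)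
    have := S.comm_mul_right (x := x) (y := b) (y' := b⁻¹ * b') (S.B_le_C hb)
      (h0 ▸ one_mem S.A)
    rwa [mul_inv_cancel_left, h0, mul_one] at this
  rw [show x • b' • u = ⁅x, b'⁆ • b' • x • u by
    rw [← mul_smul, ← mul_smul, ← mul_smul]; congr 1; simp only [commutatorElement_def]; group,
    S.χ'_spec (S.B_comm x hx.1 b' hb'), hc, S.C_linear (S.B_le_C hb'), smul_smul, h1]

theorem inEig_of_mem_E {u : V} {b : H} (hb : b ∈ S.Y u) {v : V} (hv : v ∈ S.E u) :
    S.InEig u b v := by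
  intro x hx c hc
  rw [commutatorElement_eq_one_iff_mul_comm.mpr (Subgroup.mem_centralizer_iff.mp hb.2 x hx),
    S.χ'_one, one_mul]
  exact hv x hx c hc

/-- the triple -/
theorem triple_of_C_ne (hC : S.C ≠ S.A) :
    ∃ v₁ v₂ v₃ : V, ∀ g : H, g • v₁ = v₁ → g • v₂ = v₂ → g • v₃ = v₃ → g = 1 := by
  classical
  obtain ⟨u, hu⟩ := S.exists_best
  obtain ⟨θ, hθ⟩ := exists_generator (K := K)
  obtain ⟨d, n, f, hn, hfm, hfs, hfY⟩ := S.exists_coords hC hu.1
  have : ∀ i, NeZero (n i) := fun i => ⟨by have := hn i; omega⟩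
  let : Fintype ((i : Fin d) → ZMod (n i)) := Fintype.ofFinite _
  choose r hrB hrf using hfs
  -- facts on coordinates
  have hf1 : f 1 = 0 := (hfY 1 (one_mem _)).mpr (one_mem _)
  have hfinv : ∀ b ∈ S.B, f b⁻¹ = - f b := fun b hb => by
    refine eq_neg_of_add_eq_zero_left ?_
    rw [← hfm _ (inv_mem hb) b hb, inv_mul_cancel, hf1]
  have hcoset : ∀ b ∈ S.B, ∀ b' ∈ S.B, f b = f b' → b⁻¹ * b' ∈ S.Y u := fun b hb b' hb' h =>
    (hfY _ (mul_mem (inv_mem hb) hb')).mp (by rw [hfm _ (inv_mem hb) _ hb', hfinv b hb, h, neg_add_cancel])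
  have hr0 : r 0 ∈ S.Y u := (hfY _ (hrB 0)).mp (hrf 0)
  -- the special components at zero
  obtain ⟨c₂, c₃, hc₂, hc₃, hY⟩ : ∃ c₂ c₃ : V, c₂ ∈ S.E u ∧ c₃ ∈ S.E u ∧ ∀ g : H, g • u = u →
      g • c₂ = c₂ → g • c₃ = c₃ → g ∈ S.C ∧ ∀ y ∈ S.Y u, g • y • u = y • u := by
    have hθu : θ • u ∈ S.E u := (S.E u).smul_mem _ (S.mem_E_self u)
    have hlin : ∀ g : H, g • u = u → g • θ • u = θ • u → g ∈ S.C ∧
        ∀ x ∈ S.X u, g • x • u = x • u := fun g hg h => by
      rw [S.smul_comm', hg] at h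
      have hgC := S.σ_eq_of_generator hθ (smul_left_injective K hu.1 h)
      refine ⟨hgC, fun x hx => ?_⟩
      obtain ⟨c, hc⟩ := hx.2
      rw [hc, S.C_linear hgC, hg]
    by_cases hXY : S.Y u = S.X u
    · refine ⟨0, θ • u, zero_mem _, hθu, fun g hg _ h3 => ?_⟩
      rw [hXY]; exact hlin g hg h3
    obtain ⟨y1, hy1, y2, hy2, hy1X, hy2X, hy12, hgen⟩ := S.Y_structure hC hu hXY
    have hy1E := S.Y_preserves_E hy1 (S.mem_E_self u)
    have hy2E := S.Y_preserves_E hy2 (S.mem_E_self u)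
    have hprod : ∀ g : H, g • u = u → (∀ x ∈ S.X u, g • x • u = x • u) →
        g • y1 • u = y1 • u → g • y2 • u = y2 • u → ∀ y ∈ S.Y u, g • y • u = y • u := by
      intro g hg hX h1 h2 y hy
      rcases hgen y hy with h | h | h | h
      · exact hX y h
      · have := S.fix_mul_Y hg hy1.1 (S.X_le_Y hu.1 h) h1 (hX _ h)
        rwa [mul_inv_cancel_left] at this
      · have := S.fix_mul_Y hg hy2.1 (S.X_le_Y hu.1 h) h2 (hX _ h)
        rwa [mul_inv_cancel_left] at this
      · have := S.fix_mul_Y hg (mul_mem hy2.1 hy1.1) (S.X_le_Y hu.1 h)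
          (S.fix_mul_Y hg hy2.1 hy1 h2 h1) (hX _ h)
        rwa [mul_inv_cancel_left] at this
    by_cases hspan : ∃ a b : K, y2 • u = a • u + b • y1 • u
    · obtain ⟨a, b, hab⟩ := hspan
      refine ⟨y1 • u, θ • u, hy1E, hθu, fun g hg h2 h3 => ?_⟩
      obtain ⟨hgC, hX⟩ := hlin g hg h3
      refine ⟨hgC, hprod g hg hX h2 ?_⟩
      rw [hab, smul_add, S.C_linear hgC, S.C_linear hgC, hg, h2]
    · refine ⟨y1 • u, θ • u + y2 • u, hy1E, add_mem hθu hy2E, fun g hg h2 h3 => ?_⟩
      rw [smul_add, S.smul_comm', hg] at h3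
      set t := g * y2 * g⁻¹ with ht
      have hty : g • y2 • u = t • u := by
        rw [ht, mul_smul, mul_smul, inv_smul_eq_iff.mpr hg.symm]
      rw [hty] at h3
      have key : ∀ k : H, k⁻¹ * t ∈ S.X u → k ∈ S.B → ∃ c : K, c • k • u = t • u := by
        intro k hk hkB
        obtain ⟨c, hc⟩ := hk.2
        exact ⟨c, by rw [← S.C_linear (S.B_le_C hkB), ← hc, ← mul_smul, mul_inv_cancel_left]⟩
      have h3' : ∀ c : K, ∀ v : V, c • v = t • u → y2 • u = (S.σ g θ - θ) • u + c • v := by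
        intro c v hv
        rw [hv, sub_smul, sub_add_eq_add_sub, h3, add_sub_cancel_left]
      rcases hgen t (S.conj_mem_Y hg hy2) with h | h | h | h
      · obtain ⟨c, hc⟩ := h.2
        exact absurd ⟨S.σ g θ - θ + c, 0, by
          rw [h3' c u hc.symm, zero_smul, add_zero, add_smul]⟩ hspan
      · obtain ⟨c, hc⟩ := key y1 h hy1.1
        exact absurd ⟨_, c, h3' c _ hc⟩ hspan
      · obtain ⟨c, hc⟩ := key y2 h hy2.1
        have h4 : (1 - c) • y2 • u = (S.σ g θ - θ) • u := by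
          rw [sub_smul, one_smul, sub_eq_iff_eq_add]; exact h3' c _ hc
        by_cases hc1 : c = 1
        · rw [hc1, sub_self, zero_smul] at h4
          have hσ : S.σ g θ = θ :=
            sub_eq_zero.mp ((smul_eq_zero.mp h4.symm).resolve_right hu.1)
          have hgθ : g • θ • u = θ • u := by rw [S.smul_comm', hg, hσ]
          obtain ⟨hgC, hX⟩ := hlin g hg hgθ
          refine ⟨hgC, hprod g hg hX h2 ?_⟩
          rw [hty, ← hc, hc1, one_smul]
        · refine absurd ⟨(1 - c)⁻¹ * (S.σ g θ - θ), 0, ?_⟩ hspan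
          rw [zero_smul, add_zero, ← smul_smul, ← h4, smul_smul,
            inv_mul_cancel₀ (sub_ne_zero.mpr (Ne.symm hc1)), one_smul]
      · obtain ⟨c, hc⟩ := key (y2 * y1) h (mul_mem hy2.1 hy1.1)
        have h4 := h3' c _ hc
        obtain ⟨c2, hc2⟩ := (S.sq_mem_X hC hu hy2).2
        -- apply `y2` once more
        have h5 : c2 • u = (S.σ g θ - θ) • y2 • u + (c * c2) • y1 • u := by
          have := congrArg (fun v => y2 • v) h4
          rw [smul_add, S.C_linear (S.B_le_C hy2.1), S.C_linear (S.B_le_C hy2.1), ← mul_smul,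
            ← sq, hc2, ← mul_smul y2, ← mul_assoc, ← sq] at this
          rw [this, mul_smul (y2 ^ 2)]
          congr 1
          have hyE : (y2 ^ 2) • y1 • u = c2 • y1 • u := hy1E _ (S.sq_mem_X hC hu hy2) c2 hc2
          rw [hyE, smul_smul]
        by_cases ha : S.σ g θ - θ = 0
        · rw [ha, zero_smul, zero_add] at h5
          by_cases hcc : c * c2 = 0
          · rw [hcc, zero_smul] at h5
            have hc20 : c2 = 0 := (smul_eq_zero.mp h5).resolve_right hu.1
            rw [hc20, zero_smul, smul_eq_zero_iff_eq] at hc2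
            exact absurd hc2 hu.1
          · refine absurd ⟨hy1.1, (c * c2)⁻¹ * c2, ?_⟩ hy1X
            rw [← smul_smul, h5, smul_smul, inv_mul_cancel₀ hcc, one_smul]
        · refine absurd ⟨(S.σ g θ - θ)⁻¹ * c2, -((S.σ g θ - θ)⁻¹ * (c * c2)), ?_⟩ hspan
          rw [neg_smul, ← smul_smul, h5, smul_add, smul_smul, inv_mul_cancel₀ ha, one_smul,
            smul_smul]
          abel
  -- the components
  let e : Fin d → ((i : Fin d) → ZMod (n i)) := fun i => Pi.single i 1
  let comp : V → (((i : Fin d) → ZMod (n i)) → Prop) → ((i : Fin d) → ZMod (n i)) → V :=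
    fun c P w => if w = 0 then c else if P w then r w • u else 0
  let F₂ := comp c₂ (fun w => ∃ i, w = e i)
  let F₃ := comp c₃ (Rigid n)
  refine ⟨u, ∑ w, F₂ w, ∑ w, F₃ w, fun g hg h2 h3 => ?_⟩
  -- independence of the eigenspaces
  have indep : ∀ (s : Finset ((i : Fin d) → ZMod (n i))) (F : ((i : Fin d) → ZMod (n i)) → V),
      (∀ w ∈ s, S.InEig u (r w) (F w)) → ∑ w ∈ s, F w = 0 → ∀ w ∈ s, F w = 0 := by
    intro s
    induction s using Finset.induction with
    | empty => intro F _ _ w hw; simp at hw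
    | insert a s has ih =>
      intro F hF hsum
      rw [Finset.sum_insert has] at hsum
      have hs : ∀ w ∈ s, F w = 0 := by
        intro w hw
        obtain ⟨x, hx, hne⟩ : ∃ x ∈ S.X u, ⁅x, r w⁆ ≠ ⁅x, r a⁆ := by
          by_contra h
          push Not at h
          refine has ?_
          have hm : (r a)⁻¹ * r w ∈ S.Y u := by
            refine Subgroup.mem_inf.mpr ⟨mul_mem (inv_mem (hrB a)) (hrB w), Subgroup.mem_centralizer_iff.mpr fun x hx => ?_⟩
            refine commutatorElement_eq_one_iff_mul_comm.mp ?_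
            have := S.comm_mul_right (x := x) (y := r a) (y' := (r a)⁻¹ * r w) (S.B_le_C (hrB a))
              (S.B_comm _ hx.1 _ (mul_mem (inv_mem (hrB a)) (hrB w)))
            rw [mul_inv_cancel_left, h x hx] at this
            exact mul_left_cancel ((mul_one _).trans this).symm
          have := (hfY _ (mul_mem (inv_mem (hrB a)) (hrB w))).mpr hm
          rw [hfm _ (inv_mem (hrB a)) _ (hrB w), hfinv _ (hrB a), hrf, hrf, neg_add_eq_zero] at this
          exact this ▸ hw
        obtain ⟨c, hc⟩ := hx.2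
        have hμ : ∀ w', S.χ' ⁅x, r w'⁆ * c - S.χ' ⁅x, r a⁆ * c = 0 →
            ⁅x, r w'⁆ = ⁅x, r a⁆ := by
          intro w' h
          have hc0 : c ≠ 0 := fun hc0 => hu.1 ((smul_eq_zero_iff_eq _).mp (by rw [hc, hc0, zero_smul]))
          rw [← sub_mul, mul_eq_zero, sub_eq_zero] at h
          have hA := S.B_comm _ hx.1 _ (hrB w')
          have hA' := S.B_comm _ hx.1 _ (hrB a)
          refine inv_mul_eq_one.mp (S.χ'_eq_one (mul_mem (inv_mem hA') hA) ?_) |>.symm
          have h1 := S.χ'_mul hA' (mul_mem (inv_mem hA') hA)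
          rw [mul_inv_cancel_left, h.resolve_right hc0] at h1
          exact mul_left_cancel₀ (S.χ'_ne hA') (h1.symm.trans (mul_one _).symm)
        have hzero : ∑ w' ∈ s, (S.χ' ⁅x, r w'⁆ * c - S.χ' ⁅x, r a⁆ * c) • F w' = 0 := by
          have h1 := congrArg (fun v => x • v) hsum
          simp only [smul_add, smul_zero, Finset.smul_sum] at h1
          rw [hF a (Finset.mem_insert_self _ _) x hx c hc, Finset.sum_congr rfl fun w' hw' =>
            hF w' (Finset.mem_insert_of_mem hw') x hx c hc] at h1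
          simp only [sub_smul, Finset.sum_sub_distrib, ← Finset.smul_sum]
          rw [eq_neg_of_add_eq_zero_right hsum] at *
          rw [eq_neg_of_add_eq_zero_right h1, smul_neg, sub_self]
        have hIn : ∀ w' ∈ s, S.InEig u (r w') ((S.χ' ⁅x, r w'⁆ * c - S.χ' ⁅x, r a⁆ * c) • F w') :=
          fun w' hw' x' hx' c' hc' => by
            rw [S.C_linear (S.B_le_C hx'.1), hF w' (Finset.mem_insert_of_mem hw') x' hx' c' hc',
              smul_comm]
        exact (smul_eq_zero.mp (ih _ hIn hzero w hw)).resolve_left fun h => hne (hμ w h)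
      intro w hw
      rcases Finset.mem_insert.mp hw with rfl | hw
      · rwa [Finset.sum_eq_zero hs, add_zero] at hsum
      · exact hs w hw
  -- the induced map on coordinates
  have hconjB : ∀ b ∈ S.B, g * b * g⁻¹ ∈ S.B := fun b hb => S.B_normal.conj_mem b hb g
  let M : ((i : Fin d) → ZMod (n i)) → ((i : Fin d) → ZMod (n i)) := fun w => f (g * r w * g⁻¹)
  have hMf : ∀ b ∈ S.B, M (f b) = f (g * b * g⁻¹) := fun b hb => by
    have hy := hcoset _ hb _ (hrB (f b)) (hrf (f b)).symm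
    show f (g * r (f b) * g⁻¹) = _
    rw [show g * r (f b) * g⁻¹ = (g * b * g⁻¹) * (g * (b⁻¹ * r (f b)) * g⁻¹) by group,
      hfm _ (hconjB b hb) _ (S.conj_mem_Y hg hy).1,
      (hfY _ (S.conj_mem_Y hg hy).1).mpr (S.conj_mem_Y hg hy), add_zero]
  have hMadd : ∀ w w', M (w + w') = M w + M w' := fun w w' => by
    conv_lhs => rw [← hrf w, ← hrf w', ← hfm _ (hrB w) _ (hrB w'), hMf _ (mul_mem (hrB w) (hrB w'))]
    show _ = f (g * r w * g⁻¹) + f (g * r w' * g⁻¹)
    rw [← hfm _ (hconjB _ (hrB w)) _ (hconjB _ (hrB w'))]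
    congr 1
    group
  let Mh := AddMonoidHom.mk' M hMadd
  have hMinj : Function.Injective M := (injective_iff_map_eq_zero Mh).mpr fun w hw => by
    have h1 : g * r w * g⁻¹ ∈ S.Y u := (hfY _ (hconjB _ (hrB w))).mp hw
    have hg' : g⁻¹ • u = u := inv_smul_eq_iff.mpr hg.symm
    have h2 := S.conj_mem_Y hg' h1
    rw [show g⁻¹ * (g * r w * g⁻¹) * g⁻¹⁻¹ = r w by group] at h2
    rw [← hrf w, (hfY _ (hrB w)).mpr h2]
  let Me := Equiv.ofBijective M ⟨hMinj, Finite.surjective_of_injective hMinj⟩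
  have hMe : ∀ w, Me w = M w := fun w => rfl
  have hgEig : ∀ w v, S.InEig u (r w) v → S.InEig u (r (M w)) (g • v) := by
    intro w v hv x hx c hc
    have hg' : g⁻¹ • u = u := inv_smul_eq_iff.mpr hg.symm
    have hx' := S.conj_mem_X hg' hx
    rw [inv_inv] at hx'
    have hc' := S.σ_fix_conj hg' hc
    rw [inv_inv] at hc'
    have hA := S.B_comm _ hx'.1 _ (hrB w)
    rw [show x • g • v = g • (g⁻¹ * x * g) • v by
      rw [← mul_smul, ← mul_smul]; congr 1; group, hv _ hx' _ hc', S.smul_comm', S.σ_mul,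
      S.σ_χ' g hA, ← S.σ_comp, mul_inv_cancel, S.σ_one]
    congr 3
    have hy := hcoset _ (hrB (M w)) _ (hconjB _ (hrB w)) (hrf (M w))
    rw [show g * ⁅g⁻¹ * x * g, r w⁆ * g⁻¹ =
        ⁅x, r (M w) * ((r (M w))⁻¹ * (g * r w * g⁻¹))⁆ by
      simp only [commutatorElement_def]; group,
      S.comm_mul_right (S.B_le_C (hrB (M w))) (S.B_comm _ hx.1 _ hy.1),
      commutatorElement_eq_one_iff_mul_comm.mpr (Subgroup.mem_centralizer_iff.mp hy.2 x hx), mul_one]
  have hcomp : ∀ F : ((i : Fin d) → ZMod (n i)) → V, (∀ w, S.InEig u (r w) (F w)) →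
      g • (∑ w, F w) = ∑ w, F w → ∀ w, g • F w = F (M w) := by
    intro F hF hfix w
    have hsum : ∑ w', (g • F (Me.symm w') - F w') = 0 := by
      rw [Finset.sum_sub_distrib, Equiv.sum_comp Me.symm (fun w' => g • F w'), ← Finset.smul_sum,
        hfix, sub_self]
    have hIn : ∀ w', S.InEig u (r w') (g • F (Me.symm w') - F w') := fun w' x hx c hc => by
      have h1 := hgEig (Me.symm w') _ (hF _) x hx c hc
      rw [← hMe, Equiv.apply_symm_apply] at h1
      rw [smul_sub, h1, hF w' x hx c hc, ← smul_sub]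
    have := indep Finset.univ _ (fun w' _ => hIn w') hsum (M w) (Finset.mem_univ _)
    rw [← hMe w, Equiv.symm_apply_apply] at this
    exact sub_eq_zero.mp this
  have hM0 : M 0 = 0 := map_zero Mh
  have hEig : ∀ (c : V) (P : ((i : Fin d) → ZMod (n i)) → Prop) (_ : c ∈ S.E u) w,
      S.InEig u (r w) (comp c P w) := by
    intro c P hc w
    simp only [comp]
    split_ifs with h0 hP
    · exact h0 ▸ S.inEig_of_mem_E hr0 hc
    · exact S.inEig_translate (hrB w) (hrB w) (by rw [inv_mul_cancel]; exact one_mem _)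
    · exact fun x _ c _ => by rw [smul_zero, smul_zero]
  have hg2 := hcomp F₂ (fun w => hEig c₂ (fun w => ∃ i, w = e i) hc₂ w) h2
  have hg3 := hcomp F₃ (fun w => hEig c₃ (Rigid n) hc₃ w) h3
  have hne : ∀ w, r w • u ≠ 0 := fun w => (smul_ne_zero_iff_ne _).mpr hu.1
  have hMne : ∀ w, w ≠ 0 → M w ≠ 0 := fun w hw h => hw (hMinj (h.trans hM0.symm))
  obtain ⟨hgC, hgY⟩ : g ∈ S.C ∧ ∀ y ∈ S.Y u, g • y • u = y • u := by
    refine hY g hg ?_ ?_
    · simpa [F₂, comp, hM0] using hg2 0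
    · simpa [F₃, comp, hM0] using hg3 0
  -- supports are preserved
  have hS : ∀ (c : V) (P : ((i : Fin d) → ZMod (n i)) → Prop)
      (_ : ∀ w, g • comp c P w = comp c P (M w)) w, P w → w ≠ 0 →
        P (M w) ∧ g • r w • u = r (M w) • u := by
    intro c P h w hP hw
    have h1 := h w
    simp only [comp] at h1
    rw [if_neg hw, if_neg (hMne w hw), if_pos hP] at h1
    by_cases hP' : P (M w)
    · rw [if_pos hP'] at h1; exact ⟨hP', h1⟩
    · rw [if_neg hP', smul_eq_zero_iff_eq] at h1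
      exact absurd h1 (hne w)
  have he0 : ∀ i, e i ≠ 0 := fun i h => by
    have h' := congrFun h i
    have : Fact (1 < n i) := ⟨hn i⟩
    simp [e] at h'
  have hMe_fix : ∀ i, M (e i) = e i := rigid_fix hn Mh hMinj
    (fun i => (hS c₂ (fun w => ∃ j, w = e j) hg2 (e i) ⟨i, rfl⟩ (he0 i)).1)
    (fun w hw hw0 => (hS c₃ (Rigid n) hg3 w hw hw0).1)
  have hMid : ∀ w, M w = w := by
    intro w
    show Mh w = AddMonoidHom.id _ w
    congr 1
    refine AddMonoidHom.functions_ext' _ _ _ fun i => ?_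
    ext a
    rw [AddMonoidHom.comp_apply, AddMonoidHom.comp_apply, AddMonoidHom.single_apply,
      AddMonoidHom.id_apply, show Pi.single i a = a.val • e i by
        rw [← Pi.single_smul, nsmul_one, ZMod.natCast_zmod_val], map_nsmul]
    exact congrFun (congrArg (fun v => a.val • v) (hMe_fix i)) _
  -- every element of a supported coset has fixed translate
  have good : ∀ b ∈ S.B, (f b = 0 ∨ (∃ i, f b = e i) ∨ Rigid n (f b)) → g • b • u = b • u := by
    intro b hb hb'
    by_cases h0 : f b = 0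
    · exact hgY b ((hfY b hb).mp h0)
    have h1 : g • r (f b) • u = r (f b) • u := by
      rcases hb'.resolve_left h0 with h | h
      · have := (hS c₂ (fun w => ∃ j, w = e j) hg2 (f b) h h0).2; rwa [hMid] at this
      · have := (hS c₃ (Rigid n) hg3 (f b) h h0).2; rwa [hMid] at this
    have hy := hcoset _ (hrB (f b)) b hb (hrf (f b))
    have := S.fix_mul_Y hg (hrB (f b)) hy h1 (hgY _ hy)
    rwa [mul_inv_cancel_left] at this
  let b : Fin d → H := fun i => r (e i)
  let z : H → H := fun a => a⁻¹ * (g * a * g⁻¹)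
  have hbB : ∀ i, b i ∈ S.B := fun i => hrB _
  have hbf : ∀ i, f (b i) = e i := fun i => hrf _
  have gb : ∀ i, g • b i • u = b i • u := fun i => good _ (hbB i) (Or.inr (Or.inl ⟨i, hbf i⟩))
  have hpair : ∀ i j, Commute (z (b i)) (b j) := by
    have hp : ∀ i j, Rigid n (e i + e j) → Commute (z (b i)) (b j) := fun i j h =>
      S.shift_comm hu.1 hg (hbB i) (hbB j) (gb i) (gb j)
        (good _ (mul_mem (hbB i) (hbB j)) (Or.inr (Or.inr (by rw [hfm _ (hbB i) _ (hbB j), hbf, hbf]; exact h))))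
    intro i j
    rcases rigid_pair n i j with h | ⟨k, hij, hik, hkj, hiko, hkjo, htot⟩
    · exact hp i j h
    have hfik : f (b i * b k) = e i + e k := by rw [hfm _ (hbB i) _ (hbB k), hbf, hbf]
    have hfjk : f (b j * b k) = e j + e k := by rw [hfm _ (hbB j) _ (hbB k), hbf, hbf]
    have gik : g • (b i * b k) • u = (b i * b k) • u :=
      good _ (mul_mem (hbB i) (hbB k)) (Or.inr (Or.inr (by rw [hfik]; exact hik)))
    have h1 : Commute (z (b i * b k)) (b j) := by
      refine S.shift_comm hu.1 hg (mul_mem (hbB i) (hbB k)) (hbB j) gik (gb j)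
        (good _ (mul_mem (mul_mem (hbB i) (hbB k)) (hbB j)) (Or.inr (Or.inr ?_)))
      rw [hfm _ (mul_mem (hbB i) (hbB k)) _ (hbB j), hfik, hbf]; exact htot
    have h2 : z (b i * b k) = z (b i) * z (b k) := by
      have hc := (hp i k hik).eq
      calc z (b i * b k) = (b k)⁻¹ * (z (b i) * b k) * z (b k) := by simp only [z]; group
        _ = (b k)⁻¹ * (b k * z (b i)) * z (b k) := by rw [hc]
        _ = _ := by group
    rw [h2] at h1
    have h3 : z (b i) = z (b i) * z (b k) * (z (b k))⁻¹ := by group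
    rw [h3]
    exact h1.mul_left (hp k j hkj).inv_left
  have hY' : ∀ i, ∀ y ∈ S.Y u, Commute (z y) (b i) ∧ Commute (z (b i)) y := fun i y hy =>
    ⟨S.shift_comm hu.1 hg hy.1 (hbB i) (hgY y hy) (gb i) (good _ (mul_mem hy.1 (hbB i))
      (Or.inr (Or.inl ⟨i, by rw [hfm _ hy.1 _ (hbB i), (hfY y hy.1).mpr hy, zero_add, hbf]⟩))),
     Subgroup.mem_centralizer_iff.mp hy.2 _ (S.shift hg (hbB i) (gb i)).1⟩
  -- the corrections vanish
  have hgenB : ∀ x : H, (∀ i, Commute x (b i)) → (∀ y ∈ S.Y u, Commute x y) →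
      ∀ a ∈ S.B, Commute x a := by
    intro x hxb hxy a ha
    let Q : AddSubgroup ((i : Fin d) → ZMod (n i)) :=
      { carrier := {w | ∃ a ∈ S.B, f a = w ∧ Commute x a}
        zero_mem' := ⟨1, one_mem _, hf1, Commute.one_right x⟩
        add_mem' := fun {w w'} ⟨a, ha, hw, hc⟩ ⟨a', ha', hw', hc'⟩ =>
          ⟨a * a', mul_mem ha ha', by rw [hfm a ha a' ha', hw, hw'], hc.mul_right hc'⟩
        neg_mem' := fun {w} ⟨a, ha, hw, hc⟩ =>
          ⟨a⁻¹, inv_mem ha, by rw [hfinv a ha, hw], hc.inv_right⟩ }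
    obtain ⟨a', ha', hfa', hc'⟩ : f a ∈ Q := by
      rw [← Finset.univ_sum_single (f a)]
      refine sum_mem fun i _ => ?_
      rw [show (Pi.single i (f a i) : (j : Fin d) → ZMod (n j)) = (f a i).val • e i by
        rw [← Pi.single_smul, nsmul_one, ZMod.natCast_zmod_val]]
      exact nsmul_mem (show e i ∈ Q from ⟨b i, hbB i, hbf i, hxb i⟩) _
    have hy := hcoset a' ha' a ha hfa'
    simpa using hc'.mul_right (hxy _ hy)
  have hz1 : ∀ a ∈ S.B, g • a • u = a • u → (∀ i, Commute (z a) (b i)) → z a = 1 := by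
    intro a ha hfix hc
    obtain ⟨hzX, hzu⟩ := S.shift hg ha hfix
    have hzA : z a ∈ S.A := S.centralizer_B hC (S.B_le_C hzX.1)
      (Subgroup.mem_centralizer_iff.mpr fun b' hb' => ((hgenB (z a) hc
        (fun y hy => Subgroup.mem_centralizer_iff.mp hy.2 _ hzX)) b' hb').eq.symm)
    exact S.A_fix_trivial hzA hu.1 hzu
  have hcg : ∀ a : H, z a = 1 → Commute g a := fun a h => by
    have h' : g * a * g⁻¹ = a := (inv_mul_eq_one.mp h).symm
    exact (mul_inv_eq_iff_eq_mul.mp h' : g * a = a * g)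
  have hgB : ∀ a ∈ S.B, Commute g a := hgenB g
    (fun i => hcg _ (hz1 _ (hbB i) (gb i) (hpair i)))
    (fun y hy => hcg _ (hz1 _ hy.1 (hgY y hy) fun i => (hY' i y hy).1))
  exact S.A_fix_trivial (S.centralizer_B hC hgC
    (Subgroup.mem_centralizer_iff.mpr fun a ha => (hgB a ha).eq.symm)) hu.1 hg

/-- the triple in both cases -/
theorem exists_triple (S : Setup K V H) : ∃ v₁ v₂ v₃ : V, ∀ g : H, g • v₁ = v₁ → g • v₂ = v₂ → g • v₃ = v₃ → g = 1 := by
  by_cases hC : S.C = S.A
  · obtain ⟨u, hu⟩ := exists_ne (0 : V)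
    obtain ⟨θ, hθ⟩ := exists_generator (K := K)
    refine ⟨u, θ • u, u, fun g h1 h2 _ => ?_⟩
    rw [S.smul_comm', h1] at h2
    have hgC := S.σ_eq_of_generator hθ (smul_left_injective K hu h2)
    exact S.A_fix_trivial (hC ▸ hgC) hu h1
  · exact S.triple_of_C_ne hC

end Setup

end CfsgLib.BaseThree
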