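import Cfsg.Agent.Lib.BaseTwo.Basic
/-
Three-point bases for solvable linear groups: semilinear groups with a maximal abelian normal
subgroup of scalars, and the layer over it. (As in `Lib/BaseTwo`, without a parity assumption.)
-/
set_option autoImplicit false
set_option linter.unusedSectionVars false

universe u

open scoped commutatorElement

namespace CfsgLib.BaseThree

variable (K V H : Type u) [Field K] [Finite K] [AddCommGroup V] [Finite V] [Nontrivial V]
  [Module K V] [Group H] [Finite H] [DistribMulAction H V] [FaithfulSMul H V]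

/-- multiplicative maps trivial on a subgroup are no more numerous than its cosets -/
theorem card_characters_le {G K ι : Type*} [Group G] [Finite G] [Field K] (G0 : Subgroup G)
    (f : ι → (G →* K)) (hf : Function.Injective f) (h0 : ∀ i, ∀ g ∈ G0, f i g = 1) :
    Nat.card ι ≤ G0.index := by
  classical
  have : Fintype (G ⧸ G0) := Fintype.ofFinite _
  have hconst : ∀ i g, f i (Quotient.out (QuotientGroup.mk g : G ⧸ G0)) = f i g := by
    intro i g
    obtain ⟨k, hk⟩ := QuotientGroup.mk_out_eq_mul G0 g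
    rw [hk, map_mul, h0 i k k.2, mul_one]
  let L : (G ⧸ G0 → K) →ₗ[K] (G → K) :=
    { toFun := fun φ g => φ (QuotientGroup.mk g), map_add' := fun _ _ => rfl, map_smul' := fun _ _ => rfl }
  let v : ι → (G ⧸ G0 → K) := fun i c => f i (Quotient.out c)
  have hli : LinearIndependent K v := by
    refine LinearIndependent.of_comp L ?_
    have h1 := (linearIndependent_monoidHom G K).comp f hf
    have e : ⇑L ∘ v = (fun φ : G →* K => (⇑φ : G → K)) ∘ f := by
      funext i g; exact hconst i g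
    rw [e]; exact h1
  have : Finite ι := hli.finite
  have : Fintype ι := Fintype.ofFinite ι
  have := hli.fintype_card_le_finrank
  rwa [Module.finrank_fintype_fun_eq_card, ← Nat.card_eq_fintype_card,
    ← Nat.card_eq_fintype_card] at this

/-- a semilinear group with a maximal abelian normal subgroup of scalars generating the field -/
structure Setup where
  σ : H → K → K
  smul_comm' : ∀ (h : H) (c : K) (v : V), h • (c • v) = σ h c • h • v
  A : Subgroup H
  normal : A.Normal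
  comm : ∀ a ∈ A, ∀ b ∈ A, a * b = b * a
  max : ∀ N : Subgroup H, N.Normal → A ≤ N → (∀ a ∈ N, ∀ b ∈ N, a * b = b * a) → N = A
  scal : ∀ a ∈ A, ∃ c : K, ∀ v : V, a • v = c • v
  gen : ∀ h ∈ Subgroup.centralizer (A : Set H), ∀ c : K, σ h c = c
  solv : Group.IsSolvable H

variable {K V H}

/-- the scalar by which an element acts, extended by zero -/
noncomputable def Setup.χ' (S : Setup K V H) (x : H) : K :=
  open Classical in if hx : x ∈ S.A then Classical.choose (S.scal x hx) else 0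

namespace Setup

variable (S : Setup K V H)

theorem scal_eq {c d : K} (h : ∀ v : V, c • v = d • v) : c = d := by
  obtain ⟨v, hv⟩ := exists_ne (0 : V)
  exact smul_left_injective K hv (h v)

theorem σ_mul (h : H) (c d : K) : S.σ h (c * d) = S.σ h c * S.σ h d := by
  refine scal_eq (V := V) fun v => ?_
  obtain ⟨w, rfl⟩ := MulAction.surjective h v
  rw [← S.smul_comm', mul_smul, S.smul_comm', S.smul_comm', smul_smul]

theorem σ_comp (g h : H) (c : K) : S.σ (g * h) c = S.σ g (S.σ h c) := by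
  refine scal_eq (V := V) fun v => ?_
  obtain ⟨w, rfl⟩ := MulAction.surjective (g * h) v
  rw [← S.smul_comm', mul_smul, S.smul_comm', S.smul_comm', ← mul_smul g h]

theorem σ_one (c : K) : S.σ 1 c = c := S.gen 1 (one_mem _) c

theorem σ_zero (h : H) : S.σ h 0 = 0 := by
  refine scal_eq (V := V) fun v => ?_
  obtain ⟨w, rfl⟩ := MulAction.surjective h v
  rw [← S.smul_comm', zero_smul, zero_smul, smul_zero]

theorem σ_unit (h : H) : S.σ h 1 = 1 := by
  refine scal_eq (V := V) fun v => ?_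
  obtain ⟨w, rfl⟩ := MulAction.surjective h v
  rw [← S.smul_comm', one_smul, one_smul]

theorem σ_pow (h : H) (c : K) (j : ℕ) : S.σ h (c ^ j) = S.σ h c ^ j := by
  induction j with
  | zero => rw [pow_zero, pow_zero, S.σ_unit]
  | succ j ih => rw [pow_succ, S.σ_mul, ih, pow_succ]

/-- the centraliser of the scalars -/
def C : Subgroup H := Subgroup.centralizer (S.A : Set H)

theorem A_le_C : S.A ≤ S.C := fun a ha =>
  Subgroup.mem_centralizer_iff.mpr fun b hb => S.comm b hb a ha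

theorem C_normal : (S.C).Normal := by
  refine ⟨fun c hc g => Subgroup.mem_centralizer_iff.mpr fun a ha => ?_⟩
  have h1 : g⁻¹ * a * g ∈ S.A := by simpa using S.normal.conj_mem a ha g⁻¹
  have h2 := Subgroup.mem_centralizer_iff.mp hc _ h1
  calc a * (g * c * g⁻¹) = g * ((g⁻¹ * a * g) * c) * g⁻¹ := by group
    _ = g * (c * (g⁻¹ * a * g)) * g⁻¹ := by rw [h2]
    _ = g * c * g⁻¹ * a := by group

theorem mem_C_iff (h : H) : h ∈ S.C ↔ ∀ c : K, S.σ h c = c := by
  refine ⟨S.gen h, fun hσ => Subgroup.mem_centralizer_iff.mpr fun a ha => ?_⟩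
  obtain ⟨c, hc⟩ := S.scal a ha
  refine FaithfulSMul.eq_of_smul_eq_smul fun v : V => ?_
  rw [mul_smul, mul_smul, hc, hc, S.smul_comm', hσ]

theorem C_linear {h : H} (hh : h ∈ S.C) (c : K) (v : V) : h • (c • v) = c • h • v := by
  rw [S.smul_comm', S.gen h hh]

theorem exists_generator : ∃ θ : K, ∀ c : K, c = 0 ∨ ∃ j : ℕ, c = θ ^ j := by
  obtain ⟨g, hg⟩ := IsCyclic.exists_monoid_generator (α := Kˣ)
  refine ⟨g, fun c => ?_⟩
  by_cases hc : c = 0
  · exact Or.inl hc
  · obtain ⟨j, hj⟩ := Submonoid.mem_powers_iff _ _ |>.mp (hg (Units.mk0 c hc))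
    exact Or.inr ⟨j, by simpa using (congrArg Units.val hj).symm⟩

theorem σ_eq_of_generator {θ : K} (hθ : ∀ c : K, c = 0 ∨ ∃ j : ℕ, c = θ ^ j) {h : H}
    (h1 : S.σ h θ = θ) : h ∈ S.C := by
  rw [S.mem_C_iff]
  intro c
  rcases hθ c with rfl | ⟨j, rfl⟩
  · exact S.σ_zero h
  · rw [S.σ_pow, h1]

theorem χ'_spec {x : H} (hx : x ∈ S.A) (v : V) : x • v = S.χ' x • v := by
  rw [Setup.χ', dif_pos hx]; exact Classical.choose_spec (S.scal x hx) v

theorem χ'_mul {x y : H} (hx : x ∈ S.A) (hy : y ∈ S.A) : S.χ' (x * y) = S.χ' x * S.χ' y :=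
  scal_eq (V := V) fun v => by
    rw [← S.χ'_spec (S.A.mul_mem hx hy), mul_smul, mul_smul, ← S.χ'_spec hy, ← S.χ'_spec hx]

theorem χ'_one : S.χ' 1 = 1 := scal_eq (V := V) fun v => by
  rw [← S.χ'_spec (one_mem _), one_smul, one_smul]

theorem χ'_ne {x : H} (hx : x ∈ S.A) : S.χ' x ≠ 0 := fun h => by
  obtain ⟨v, hv⟩ := exists_ne (0 : V)
  exact hv (MulAction.injective x (by dsimp only; rw [S.χ'_spec hx, h, zero_smul, smul_zero]))

theorem χ'_eq_one {x : H} (hx : x ∈ S.A) (h : S.χ' x = 1) : x = 1 :=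
  FaithfulSMul.eq_of_smul_eq_smul fun v : V => by rw [S.χ'_spec hx, h, one_smul, one_smul]

theorem A_fix_trivial {a : H} (ha : a ∈ S.A) {v : V} (hv : v ≠ 0) (hav : a • v = v) : a = 1 :=
  S.χ'_eq_one ha (smul_left_injective K hv (by
    show S.χ' a • v = (1 : K) • v
    rw [← S.χ'_spec ha, one_smul, hav]))

theorem A_central {a h : H} (ha : a ∈ S.A) (hh : h ∈ S.C) : a * h = h * a :=
  Subgroup.mem_centralizer_iff.mp hh a ha

theorem comm_mul_left {x x' y : H} (hx : x ∈ S.C) (hc : ⁅x', y⁆ ∈ S.A) :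
    ⁅x * x', y⁆ = ⁅x', y⁆ * ⁅x, y⁆ := by
  have h := S.A_central hc hx
  calc ⁅x * x', y⁆ = x * ⁅x', y⁆ * (y * x⁻¹ * y⁻¹) := by simp only [commutatorElement_def]; group
    _ = ⁅x', y⁆ * ⁅x, y⁆ := by rw [← h]; simp only [commutatorElement_def]; group

theorem comm_mul_right {x y y' : H} (hy : y ∈ S.C) (hc : ⁅x, y'⁆ ∈ S.A) :
    ⁅x, y * y'⁆ = ⁅x, y⁆ * ⁅x, y'⁆ := by
  have h := S.A_central hc hy
  calc ⁅x, y * y'⁆ = (x * y * x⁻¹) * (⁅x, y'⁆ * y⁻¹) := by simp only [commutatorElement_def]; group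
    _ = (x * y * x⁻¹) * (y⁻¹ * ⁅x, y'⁆) := by
        rw [show ⁅x, y'⁆ * y⁻¹ = y⁻¹ * ⁅x, y'⁆ from S.A_central hc (S.C.inv_mem hy)]
    _ = ⁅x, y⁆ * ⁅x, y'⁆ := by simp only [commutatorElement_def]; group

/-- a pairing with commutators in `A` bounds the index of its kernel -/
theorem relIndex_le (X Y Y0 : Subgroup H) (hX : X ≤ S.C) (hY : Y ≤ S.C)
    (hc : ∀ x ∈ X, ∀ y ∈ Y, ⁅x, y⁆ ∈ S.A) (h0 : ∀ x ∈ X, ∀ y ∈ Y0, x * y = y * x) :
    (Subgroup.centralizer (Y : Set H)).relIndex X ≤ Y0.relIndex Y := by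
  classical
  let Φ : X → (Y →* K) := fun x =>
    { toFun := fun y => S.χ' ⁅(x : H), (y : H)⁆
      map_one' := by simp [S.χ'_one]
      map_mul' := fun y y' => by
        rw [Subgroup.coe_mul, S.comm_mul_right (hY y.2) (hc x x.2 y' y'.2),
          S.χ'_mul (hc x x.2 y y.2) (hc x x.2 y' y'.2)] }
  let N := (Subgroup.centralizer (Y : Set H)).subgroupOf X
  show N.index ≤ (Y0.subgroupOf Y).index
  rw [Subgroup.index_eq_card N]
  let Ψ : X ⧸ N → (Y →* K) := fun q => Φ (Quotient.out q)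
  refine card_characters_le (Y0.subgroupOf Y) Ψ ?_ ?_
  · intro p q hpq
    rw [← QuotientGroup.out_eq' p, ← QuotientGroup.out_eq' q]
    refine QuotientGroup.eq.mpr (Subgroup.mem_centralizer_iff.mpr fun y hy => ?_)
    let a : X := Quotient.out p
    let b : X := Quotient.out q
    have heq : S.χ' ⁅(a : H), y⁆ = S.χ' ⁅(b : H), y⁆ :=
      DFunLike.congr_fun hpq (⟨y, hy⟩ : Y)
    have hm : ⁅((a⁻¹ * b : X) : H), y⁆ ∈ S.A := hc _ (a⁻¹ * b).2 y hy
    have h2 : ⁅(b : H), y⁆ = ⁅((a⁻¹ * b : X) : H), y⁆ * ⁅(a : H), y⁆ := by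
      rw [← S.comm_mul_left (hX a.2) hm]; simp
    rw [h2, S.χ'_mul hm (hc a a.2 y hy)] at heq
    exact (commutatorElement_eq_one_iff_mul_comm.mp (S.χ'_eq_one hm
      (mul_right_cancel₀ (S.χ'_ne (hc a a.2 y hy)) (heq.symm.trans (one_mul _).symm)))).symm
  · intro q y hy
    show S.χ' ⁅((Quotient.out q : X) : H), (y : H)⁆ = 1
    rw [commutatorElement_eq_one_iff_mul_comm.mpr
      (h0 _ (Quotient.out q : X).2 (y : H) (Subgroup.mem_subgroupOf.mp hy)), S.χ'_one]

/-- minimal normal subgroups over `A` inside the centraliser -/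
def IsMinOver (D : Subgroup H) : Prop :=
  D.Normal ∧ S.A < D ∧ D ≤ S.C ∧ ∀ E : Subgroup H, E.Normal → S.A ≤ E → E ≤ D → E = S.A ∨ E = D

theorem exists_minOver (M : Subgroup H) (hM : M.Normal) (hAM : S.A < M) (hMC : M ≤ S.C) :
    ∃ D, S.IsMinOver D ∧ D ≤ M := by
  classical
  let Ds : Finset (Subgroup H) := (Set.toFinite {D : Subgroup H | D.Normal ∧ S.A < D ∧ D ≤ M}).toFinset
  have hne : Ds.Nonempty := ⟨M, (Set.Finite.mem_toFinset _).mpr ⟨hM, hAM, le_rfl⟩⟩
  obtain ⟨D, hD, hmin⟩ := Finset.exists_min_image Ds (fun D => Nat.card D) hne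
  obtain ⟨hDn, hAD, hDM⟩ := (Set.Finite.mem_toFinset _).mp hD
  refine ⟨D, ⟨hDn, hAD, hDM.trans hMC, fun E hEn hAE hED => ?_⟩, hDM⟩
  rcases hAE.eq_or_lt with h | h
  · exact Or.inl h.symm
  · exact Or.inr (Subgroup.eq_of_le_of_card_ge hED
      (hmin E ((Set.Finite.mem_toFinset _).mpr ⟨hEn, h, hED.trans hDM⟩)))

/-- the layer -/
def B : Subgroup H := sSup {D | S.IsMinOver D}

theorem le_B {D : Subgroup H} (hD : S.IsMinOver D) : D ≤ S.B := le_sSup hD

theorem B_le_C : S.B ≤ S.C := sSup_le fun _ hD => hD.2.2.1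

theorem B_normal : S.B.Normal := by
  refine ⟨fun x hx g => ?_⟩
  have hle : S.B ≤ S.B.comap (MulAut.conj g).toMonoidHom :=
    sSup_le fun D hD y hy => S.le_B hD (hD.1.conj_mem y hy g)
  exact hle hx

theorem A_le_B (hC : S.C ≠ S.A) : S.A ≤ S.B := by
  obtain ⟨D, hD, -⟩ := S.exists_minOver S.C S.C_normal (lt_of_le_of_ne S.A_le_C (Ne.symm hC)) le_rfl
  exact hD.2.1.le.trans (S.le_B hD)

theorem minOver_comm {D D' : Subgroup H} (hD : S.IsMinOver D) (hD' : S.IsMinOver D') :
    ⁅D, D'⁆ ≤ S.A := by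
  have := hD.1; have := hD'.1; have := S.normal
  by_cases h : D = D'
  · subst h
    have hn : (⁅D, D⁆ ⊔ S.A).Normal := Subgroup.sup_normal _ _
    rcases hD.2.2.2 _ hn le_sup_right (sup_le (Subgroup.commutator_le_left D D) hD.2.1.le) with h | h
    · exact sup_eq_right.mp h
    · exfalso
      let M : Subgroup (H ⧸ S.A) := D.map (QuotientGroup.mk' S.A)
      have hMM : ⁅M, M⁆ = M := by
        conv_rhs => rw [show M = (⁅D, D⁆ ⊔ S.A).map (QuotientGroup.mk' S.A) by rw [h]]
        rw [Subgroup.map_sup, Subgroup.map_commutator,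
          (QuotientGroup.map_mk'_self S.A), sup_bot_eq]
      have hsM : Group.IsSolvable M := by
        have := S.solv
        infer_instance
      by_cases hb : M = ⊥
      · exact absurd ((QuotientGroup.ker_mk' S.A ▸ (Subgroup.map_eq_bot_iff _).mp hb :
          D ≤ S.A)) (not_le_of_gt hD.2.1)
      · have hd : ∀ j, derivedSeries M j = ⊤ := by
          intro j
          induction j with
          | zero => exact derivedSeries_zero _
          | succ j ih =>
            rw [derivedSeries_succ, ih]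
            refine Subgroup.map_injective M.subtype_injective ?_
            rw [Subgroup.map_commutator, ← MonoidHom.range_eq_map, Subgroup.range_subtype, hMM]
        obtain ⟨j, hj⟩ := hsM.solvable
        rw [hd j] at hj
        exact hb ((Subgroup.eq_bot_iff_forall _).mpr fun x hx => congrArg Subtype.val
          ((Subgroup.eq_bot_iff_forall _).mp hj ⟨x, hx⟩ trivial))
  · refine (Subgroup.commutator_le_inf D D').trans ?_
    rcases hD.2.2.2 (D ⊓ D') inferInstance (le_inf hD.2.1.le hD'.2.1.le) inf_le_left with h1 | h1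
    · exact h1.le
    · rcases hD'.2.2.2 D hD.1 hD.2.1.le (inf_eq_left.mp h1) with h2 | h2
      · exact absurd h2.symm hD.2.1.ne
      · exact absurd h2 h

theorem B_comm : ∀ x ∈ S.B, ∀ y ∈ S.B, ⁅x, y⁆ ∈ S.A := by
  have hA := S.normal
  let π := QuotientGroup.mk' S.A
  have key : ∀ D, S.IsMinOver D → S.B ≤ (Subgroup.centralizer ((D.map π : Subgroup _) : Set (H ⧸ S.A))).comap π := by
    intro D hD
    refine sSup_le fun D' hD' x hx => ?_
    rw [Subgroup.mem_comap, Subgroup.mem_centralizer_iff]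
    rintro _ ⟨d, hd, rfl⟩
    rw [← map_mul, ← map_mul]
    refine QuotientGroup.eq.mpr ?_
    have h1 : ⁅x⁻¹, d⁻¹⁆ ∈ S.A :=
      S.minOver_comm hD' hD (Subgroup.commutator_mem_commutator (inv_mem hx) (inv_mem hd))
    simpa [commutatorElement_def, mul_assoc] using h1
  have key2 : S.B ≤ (Subgroup.centralizer ((S.B.map π : Subgroup _) : Set (H ⧸ S.A))).comap π := by
    refine sSup_le fun D hD x hx => ?_
    rw [Subgroup.mem_comap, Subgroup.mem_centralizer_iff]
    rintro _ ⟨b, hb, rfl⟩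
    exact (Subgroup.mem_centralizer_iff.mp (key D hD hb) (π x) ⟨x, hx, rfl⟩).symm
  intro x hx y hy
  refine (QuotientGroup.eq_one_iff _).mp ?_
  show π ⁅x, y⁆ = 1
  rw [map_commutatorElement, commutatorElement_eq_one_iff_mul_comm]
  exact (Subgroup.mem_centralizer_iff.mp (key2 hx) (π y) ⟨y, hy, rfl⟩).symm

/-- nothing in the centraliser outside `A` centralises the layer -/
theorem centralizer_B (hC : S.C ≠ S.A) {x : H} (hx : x ∈ S.C)
    (hxB : x ∈ Subgroup.centralizer (S.B : Set H)) : x ∈ S.A := by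
  have := S.C_normal; have := S.B_normal
  by_contra hxA
  let M : Subgroup H := S.C ⊓ Subgroup.centralizer (S.B : Set H)
  have hMn : M.Normal := inferInstanceAs (S.C ⊓ Subgroup.centralizer (S.B : Set H)).Normal
  have hAM : S.A < M := by
    refine lt_of_le_of_ne (le_inf S.A_le_C fun a ha => Subgroup.mem_centralizer_iff.mpr fun b hb =>
      (S.A_central ha (S.B_le_C hb)).symm) fun h => hxA (h ▸ ⟨hx, hxB⟩)
  obtain ⟨D, hD, hDM⟩ := S.exists_minOver M hMn hAM inf_le_left
  exact hD.2.1.ne (S.max D hD.1 hD.2.1.le fun a ha b hb =>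
    (Subgroup.mem_centralizer_iff.mp (hDM hb).2 a (S.le_B hD ha))).symm

theorem centralizer_B_relIndex (hC : S.C ≠ S.A) {X : Subgroup H} (hX : X ≤ S.C) :
    (Subgroup.centralizer (S.B : Set H)).relIndex X = S.A.relIndex X := by
  rw [← Subgroup.inf_relIndex_right (Subgroup.centralizer _), ← Subgroup.inf_relIndex_right S.A]
  congr 1
  exact le_antisymm (fun x hx => ⟨S.centralizer_B hC (hX hx.2) hx.1, hx.2⟩)
    (fun x hx => ⟨Subgroup.mem_centralizer_iff.mpr fun b hb =>
      (S.A_central hx.1 (S.B_le_C hb)).symm, hx.2⟩)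

/-- the elements of the centraliser acting trivially on the layer modulo `A` lie in the layer -/
theorem mem_B_of_comm (hC : S.C ≠ S.A) {x : H} (hx : x ∈ S.C)
    (hxc : ∀ b ∈ S.B, ⁅x, b⁆ ∈ S.A) : x ∈ S.B := by
  let D0 : Subgroup H :=
    { carrier := {h | h ∈ S.C ∧ ∀ b ∈ S.B, ⁅h, b⁆ ∈ S.A}
      one_mem' := ⟨one_mem _, fun b _ => by simp⟩
      mul_mem' := fun {a b} ha hb => ⟨mul_mem ha.1 hb.1, fun c hc => by
        rw [S.comm_mul_left ha.1 (hb.2 c hc)]; exact mul_mem (hb.2 c hc) (ha.2 c hc)⟩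
      inv_mem' := fun {a} ha => ⟨inv_mem ha.1, fun c hc => by
        have h1 := S.comm_mul_left (x := a⁻¹) (x' := a) (inv_mem ha.1) (ha.2 c hc)
        rw [inv_mul_cancel, commutatorElement_one_left] at h1
        rw [eq_inv_of_mul_eq_one_right h1.symm]
        exact inv_mem (ha.2 c hc)⟩ }
  have hBD : S.B ≤ D0 := fun b hb => ⟨S.B_le_C hb, S.B_comm b hb⟩
  have hAB := S.A_le_B hC
  have hD0C : ∀ d ∈ D0, d ∈ S.C := fun d hd => (hd : d ∈ S.C ∧ _).1
  have h1 := S.relIndex_le D0 S.B S.A hD0C S.B_le_C (fun d hd => (hd : d ∈ S.C ∧ _).2)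
    (fun d hd a ha => (S.A_central ha (hD0C d hd)).symm)
  rw [S.centralizer_B_relIndex hC hD0C,
    ← Subgroup.relIndex_mul_relIndex S.A S.B D0 hAB hBD] at h1
  have hpos : 0 < S.A.relIndex S.B := Nat.pos_of_ne_zero Subgroup.index_ne_zero_of_finite
  have h2 : S.B.relIndex D0 = 1 := by
    have : 0 < S.B.relIndex D0 := Nat.pos_of_ne_zero Subgroup.index_ne_zero_of_finite
    nlinarith
  exact Subgroup.relIndex_eq_one.mp h2 (show x ∈ D0 from ⟨hx, hxc⟩)

theorem exists_pairing_ne (hC : S.C ≠ S.A) {x : H} (hx : x ∈ S.B) (hxA : x ∉ S.A) :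
    ∃ y ∈ S.B, ⁅x, y⁆ ≠ 1 := by
  by_contra h
  push Not at h
  exact hxA (S.centralizer_B hC (S.B_le_C hx) (Subgroup.mem_centralizer_iff.mpr fun y hy =>
    (commutatorElement_eq_one_iff_mul_comm.mp (h y hy)).symm))

theorem prime_dvd_sub_one (hC : S.C ≠ S.A) {r : ℕ} (hr : r.Prime) (hrd : r ∣ S.A.relIndex S.B) :
    r ∣ Nat.card K - 1 := by
  classical
  have : Fact r.Prime := ⟨hr⟩
  have := S.normal
  obtain ⟨q, hq⟩ := exists_prime_orderOf_dvd_card' (G := S.B ⧸ S.A.subgroupOf S.B) r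
    (by rw [← Subgroup.index_eq_card]; exact hrd)
  obtain ⟨x, rfl⟩ := QuotientGroup.mk_surjective q
  have hxA : (x : H) ∉ S.A := fun h => hr.ne_one (by
    rw [← hq, orderOf_eq_one_iff, QuotientGroup.eq_one_iff]; exact h)
  have hxr : (x : H) ^ r ∈ S.A := by
    have : (QuotientGroup.mk (x ^ r) : S.B ⧸ S.A.subgroupOf S.B) = 1 := by
      rw [QuotientGroup.mk_pow, ← hq, pow_orderOf_eq_one]
    simpa using Subgroup.mem_subgroupOf.mp ((QuotientGroup.eq_one_iff _).mp this)
  obtain ⟨y, hy, hne⟩ := S.exists_pairing_ne hC x.2 hxA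
  have hc := S.B_comm x x.2 y hy
  have hpow : ∀ j : ℕ, S.χ' ⁅(x : H) ^ j, y⁆ = S.χ' ⁅(x : H), y⁆ ^ j := by
    intro j
    induction j with
    | zero => simp [S.χ'_one]
    | succ j ih =>
      have hj : ⁅(x : H) ^ j, y⁆ ∈ S.A := S.B_comm _ (pow_mem x.2 j) y hy
      rw [pow_succ, S.comm_mul_left (pow_mem (S.B_le_C x.2) j) hc, S.χ'_mul hc hj, ih]
      ring
  have h1 : S.χ' ⁅(x : H), y⁆ ^ r = 1 := by
    rw [← hpow, commutatorElement_eq_one_iff_mul_comm.mpr (S.A_central hxr (S.B_le_C hy)), S.χ'_one]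
  let z : Kˣ := Units.mk0 _ (S.χ'_ne hc)
  have hz : orderOf z = r := by
    refine orderOf_eq_prime (Units.ext (by simpa [z] using h1)) fun h => hne (S.χ'_eq_one hc ?_)
    simpa [z] using congrArg Units.val h
  rw [← hz, ← Nat.card_units]
  exact orderOf_dvd_natCard z

end Setup

end CfsgLib.BaseThree
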